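import Mathlib
import Cfsg.Agent.Lib.FischerMTypes.Seven.Unitary

/-!
Elements of order 5 in the six-dimensional unitary group over four elements: the fixed vectors form a
non-degenerate plane, and modulo the scalars the centraliser is of order 5 over its stabiliser.
-/

set_option autoImplicit false
set_option linter.style.haveILetI false
set_option linter.unusedSectionVars false

namespace Cfsg.Agent.Lib.FischerMTypes.Five

open Matrix Module Cfsg.Agent.Lib.Unitary Cfsg.Agent.Lib.UnitaryFour.Transvection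
open Cfsg.Agent.Lib.FischerMTypes.Eleven (L det_L fixS mem_fixS card_SU_six card_sub comm_act
  fixS_invariant)
open Cfsg.Agent.Lib.FischerMTypes.Seven (Herm set_modEq restrict exists_fixed_five eq_one_of_fixS)

variable {F : Type*} [Field F] [Fintype F]

local notation "h⟪" u ", " v "⟫" => Cfsg.hermForm 6 F 2 u v

/-- the orthogonal subspace -/
abbrev orth (U : Submodule F (Fin 6 → F)) : Submodule F (Fin 6 → F) := Cfsg.Agent.Lib.Unitary.perp 2 U

/-- the zeros of the form on a subspace whose radical has codimension two -/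
theorem card_null_sub (hF : Fintype.card F = 2 ^ 2) {U : Submodule F (Fin 6 → F)}
    (h : finrank F ↥(U ⊓ orth U) + 2 = finrank F U) :
    Nat.card {v : Fin 6 → F // v ∈ U ∧ h⟪v, v⟫ = 0} = Nat.card ↥(U ⊓ orth U) * 10 := by
  let e := Submodule.comapSubtypeEquivOfLe (inf_le_left : U ⊓ orth U ≤ U)
  have hR : ∀ v : U, (∀ w, (restrict hF U).B v w = 0) ↔ v ∈ (U ⊓ orth U).comap U.subtype :=
    fun v => ⟨fun h' => ⟨v.2, fun w hw => h' ⟨w, hw⟩⟩, fun h' w => h'.2 w.1 w.2⟩
  rw [← Nat.card_congr e.toEquiv, ← (restrict hF U).card_null_two hF hR (by rw [e.finrank_eq, h])]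
  exact Nat.card_congr (Equiv.subtypeSubtypeEquivSubtypeInter (fun v => v ∈ U)
    (fun v => h⟪v, v⟫ = 0)).symm

/-- an element fixing everything orthogonal to its fixed vectors is an involution -/
theorem sq_eq_one (hF : Fintype.card F = 2 ^ 2) {y : Cfsg.SU 6 F 2}
    (hle : orth (fixS y) ≤ fixS y) : y * y = 1 := by
  refine ext' fun v => ?_
  rw [act_one, act_mul]
  have hmem : act y v + v ∈ fixS y := hle fun u hu => by
    rw [herm_add_left]
    conv_lhs => rw [← mem_fixS.mp hu, act_herm, mem_fixS.mp hu]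
    exact add_self_zero hF _
  have h := mem_fixS.mp hmem
  rw [act_add, add_comm (act y v) v] at h
  exact add_right_cancel h

/-- an element preserving a subspace preserves the orthogonal subspace -/
theorem orth_invariant_of_fix {y : Cfsg.SU 6 F 2} {U : Submodule F (Fin 6 → F)} (hU : U ≤ fixS y) :
    ∀ v ∈ orth U, act y v ∈ orth U := fun v hv u hu => by
  rw [← mem_fixS.mp (hU hu), act_herm]
  exact hv u hu

variable {x : Cfsg.SU 6 F 2}

theorem pow_five (hx : orderOf x = 5) : x ^ 5 = 1 := hx ▸ pow_orderOf_eq_one x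

theorem orth_invariant (hx : orderOf x = 5) {U : Submodule F (Fin 6 → F)} (hU : ∀ u ∈ U, act x u ∈ U) :
    ∀ v ∈ orth U, act x v ∈ orth U := by
  intro v hv w hw
  have hi : ∀ i, act (x ^ i) w ∈ U := by
    intro i
    induction i with
    | zero => rwa [pow_zero, act_one]
    | succ i ih => rw [pow_succ', act_mul]; exact hU _ ih
  have e : act x (act (x ^ 4) w) = w := by rw [← act_mul, ← pow_succ', pow_five hx, act_one]
  rw [← e, act_herm]
  exact hv _ (hi 4)

theorem radical_invariant (hx : orderOf x = 5) {U : Submodule F (Fin 6 → F)}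
    (hU : ∀ u ∈ U, act x u ∈ U) : ∀ v ∈ U ⊓ orth U, act x v ∈ U ⊓ orth U :=
  fun v hv => ⟨hU v hv.1, orth_invariant hx hU v hv.2⟩

theorem card_fixed_mod (hx : orderOf x = 5) {U : Submodule F (Fin 6 → F)}
    (hU : ∀ u ∈ U, act x u ∈ U) : Nat.card U ≡ Nat.card ↥(U ⊓ fixS x) [MOD 5] := by
  have h := set_modEq (by norm_num) (pow_five hx) (U : Set (Fin 6 → F)) hU
  have e : Nat.card {v : Fin 6 → F // v ∈ (U : Set (Fin 6 → F)) ∧ act x v = v} =
      Nat.card ↥(U ⊓ fixS x) :=
    Nat.card_congr (Equiv.subtypeEquivRight fun v =>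
      ⟨fun h => ⟨h.1, mem_fixS.mpr h.2⟩, fun h => ⟨h.1, mem_fixS.mp h.2⟩⟩)
  rw [e] at h
  exact h

theorem even_of_free (hF : Fintype.card F = 2 ^ 2) (hx : orderOf x = 5) {U : Submodule F (Fin 6 → F)}
    (hU : ∀ u ∈ U, act x u ∈ U) (hfix : ∀ u ∈ U, act x u = u → u = 0) :
    finrank F U = 0 ∨ finrank F U = 2 ∨ finrank F U = 4 ∨ finrank F U = 6 := by
  have h := card_fixed_mod hx hU
  rw [(Submodule.eq_bot_iff _).mpr (fun u (hu : u ∈ U ⊓ fixS x) => hfix u hu.1 (mem_fixS.mp hu.2)),
    card_sub hF, card_sub hF, finrank_bot] at h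
  have hk : finrank F U ≤ 6 := (Submodule.finrank_le _).trans (finrank_fin_fun F).le
  generalize finrank F U = k at *
  interval_cases k <;> simp_all [Nat.ModEq]

/-- no invariant subspace with radical of codimension two and all fixed vectors inside the radical -/
theorem not_two (hF : Fintype.card F = 2 ^ 2) (hx : orderOf x = 5) {U : Submodule F (Fin 6 → F)}
    (hU : ∀ u ∈ U, act x u ∈ U) (h : finrank F ↥(U ⊓ orth U) + 2 = finrank F U)
    (hfix : ∀ v ∈ U, act x v = v → v ∈ U ⊓ orth U) : False := by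
  have h1 := set_modEq (by norm_num) (pow_five hx) {v | v ∈ U ∧ h⟪v, v⟫ = 0}
    (fun v hv => ⟨hU v hv.1, by rw [act_herm]; exact hv.2⟩)
  have h2 := set_modEq (by norm_num) (pow_five hx) (↑(U ⊓ orth U) : Set (Fin 6 → F))
    (radical_invariant hx hU)
  have e : Nat.card {v : Fin 6 → F // v ∈ {v | v ∈ U ∧ h⟪v, v⟫ = 0} ∧ act x v = v} =
      Nat.card {v : Fin 6 → F // v ∈ (↑(U ⊓ orth U) : Set (Fin 6 → F)) ∧ act x v = v} :=
    Nat.card_congr (Equiv.subtypeEquivRight fun v => ⟨fun h' => ⟨hfix v h'.1.1 h'.2, h'.2⟩,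
      fun h' => ⟨⟨h'.1.1, h'.1.2 v h'.1.1⟩, h'.2⟩⟩)
  have h3 : Nat.card ↥(U ⊓ orth U) * 10 ≡ Nat.card ↥(U ⊓ orth U) [MOD 5] := by
    rw [← card_null_sub hF h]
    exact (h1.trans (by rw [e])).trans h2.symm
  have hle : finrank F ↥(U ⊓ orth U) ≤ 6 := (Submodule.finrank_le _).trans (finrank_fin_fun F).le
  rw [card_sub hF] at h3
  generalize finrank F ↥(U ⊓ orth U) = k at *
  interval_cases k <;> simp [Nat.ModEq] at h3

/-- an element of order 5 fixes a non-degenerate plane -/
theorem fix_spec (hF : Fintype.card F = 2 ^ 2) (hx : orderOf x = 5) :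
    finrank F (fixS x) = 2 ∧ fixS x ⊓ orth (fixS x) = ⊥ := by
  set U := fixS x
  set W := orth U
  have hW : ∀ w ∈ W, act x w ∈ W := orth_invariant_of_fix le_rfl
  have hdim := finrank_perp (q := 2) hF U
  have hne0 : finrank F U ≠ 0 := fun h0 => by
    obtain ⟨v, hv0, hv⟩ := exists_fixed_five hF hx
    exact hv0 ((Submodule.eq_bot_iff _).mp (Submodule.finrank_eq_zero.mp h0) v (mem_fixS.mpr hv))
  have hne6 : finrank F U ≠ 6 := fun h6 => by
    rw [eq_one_of_fixS x h6, orderOf_one] at hx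
    omega
  have htop := card_fixed_mod hx (U := (⊤ : Submodule F (Fin 6 → F))) (fun _ _ => Submodule.mem_top)
  rw [top_inf_eq, card_sub hF, card_sub hF, finrank_top, finrank_fin_fun] at htop
  change 4 ^ 6 ≡ 4 ^ finrank F U [MOD 5] at htop
  have hWU := card_fixed_mod hx hW
  have hrad : W ⊓ orth W = U ⊓ orth U := by
    rw [show orth W = U from perp_perp hF U, inf_comm]
  rw [show W ⊓ fixS x = U ⊓ orth U from inf_comm _ _, card_sub hF, card_sub hF] at hWU
  have hj : finrank F ↥(U ⊓ orth U) ≤ finrank F U := Submodule.finrank_mono inf_le_left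
  have hj' : finrank F ↥(U ⊓ orth U) ≤ finrank F W := Submodule.finrank_mono inf_le_right
  have hk : finrank F U ≤ 6 := (Submodule.finrank_le _).trans (finrank_fin_fun F).le
  have hkeven : finrank F U = 2 ∨ finrank F U = 4 := by
    generalize finrank F U = k at *
    interval_cases k <;> simp_all [Nat.ModEq]
  have hjeven : finrank F ↥(U ⊓ orth U) = 0 ∨ finrank F ↥(U ⊓ orth U) = 2 := by
    change finrank F W + _ = 6 at hdim
    rcases hkeven with hk2 | hk4
    · have hW4 : finrank F W = 4 := by omega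
      rw [hW4] at hWU
      rw [hk2] at hj
      generalize finrank F ↥(U ⊓ orth U) = j at *
      interval_cases j <;> simp_all [Nat.ModEq]
    · have hW2 : finrank F W = 2 := by omega
      rw [hW2] at hWU hj'
      generalize finrank F ↥(U ⊓ orth U) = j at *
      interval_cases j <;> simp_all [Nat.ModEq]
  have hfixW : ∀ v ∈ W, act x v = v → v ∈ W ⊓ orth W := fun v hv hxv => by
    rw [hrad]; exact ⟨mem_fixS.mpr hxv, hv⟩
  rcases hkeven with hk2 | hk4
  · refine ⟨hk2, ?_⟩
    rcases hjeven with h0 | h2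
    · exact Submodule.finrank_eq_zero.mp h0
    · exact (not_two hF hx hW (by rw [hrad, h2]; change finrank F W + _ = 6 at hdim; omega) hfixW).elim
  · exfalso
    rcases hjeven with h0 | h2
    · exact not_two hF hx hW (by rw [hrad, h0]; change finrank F W + _ = 6 at hdim; omega) hfixW
    · have heq : U ⊓ orth U = W := Submodule.eq_of_le_of_finrank_eq inf_le_right (by
        rw [h2]; change finrank F W + _ = 6 at hdim; omega)
      have h1 := sq_eq_one hF (y := x) (heq.ge.trans inf_le_left)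
      have : x = 1 := by
        have h5 := pow_five hx
        rwa [show (5 : ℕ) = 2 + 2 + 1 from rfl, pow_succ, pow_add, pow_two, h1, one_mul, one_mul] at h5
      rw [this, orderOf_one] at hx
      omega

/-- a vector sent to a multiple of itself is fixed -/
theorem act_eq_self (hF : Fintype.card F = 2 ^ 2) (hx : orderOf x = 5) {v : Fin 6 → F} (hv : v ≠ 0)
    {c : F} (hc : c ≠ 0) (h : act x v = c • v) : act x v = v := by
  have hi : ∀ i, act (x ^ i) v = c ^ i • v := by
    intro i
    induction i with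
    | zero => rw [pow_zero, pow_zero, act_one, one_smul]
    | succ i ih => rw [pow_succ', act_mul, ih, act_smul, h, smul_smul, pow_succ]
  have h5 : c ^ 5 = 1 := smul_left_injective F hv (show c ^ 5 • v = (1 : F) • v by
    rw [one_smul, ← hi 5, pow_five hx, act_one])
  have h2 : (c - 1) * (c - 1) = 0 := by
    linear_combination h5 - c ^ 2 * cube_eq_one hF hc + (1 - c) * two_eq_zero hF
  rw [h, sub_eq_zero.mp (mul_self_eq_zero.mp h2), one_smul]

/-- orthogonal isotropic vectors of a non-degenerate plane are parallel -/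
theorem parallel_of_orth (hF : Fintype.card F = 2 ^ 2) {U : Submodule F (Fin 6 → F)}
    (h2 : finrank F U = 2) (hn : U ⊓ orth U = ⊥) {u v : Fin 6 → F} (hu : u ∈ U) (hu0 : u ≠ 0)
    (huu : h⟪u, u⟫ = 0) (hv : v ∈ U) (huv : h⟪u, v⟫ = 0) : ∃ c : F, v = c • u := by
  by_contra hcon
  push Not at hcon
  have hli : LinearIndependent F ![u, v] :=
    (LinearIndependent.pair_iff' hu0).mpr fun c hc => hcon c hc.symm
  have hsp : Submodule.span F (Set.range ![u, v]) = U := by
    refine Submodule.eq_of_le_of_finrank_eq (Submodule.span_le.mpr ?_) ?_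
    · rintro _ ⟨i, rfl⟩
      fin_cases i <;> assumption
    · rw [finrank_span_eq_card hli, Fintype.card_fin, h2]
  refine hu0 ((Submodule.eq_bot_iff _).mp hn u ⟨hu, ?_⟩)
  rw [orth, ← hsp]
  refine (mem_perp_span_range hF).mpr fun i => ?_
  fin_cases i <;> assumption

/-- a non-degenerate plane contains two non-orthogonal isotropic vectors spanning it -/
theorem exists_pair_isotropic (hF : Fintype.card F = 2 ^ 2) {U : Submodule F (Fin 6 → F)}
    (h2 : finrank F U = 2) (hn : U ⊓ orth U = ⊥) :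
    ∃ u v, u ∈ U ∧ v ∈ U ∧ u ≠ 0 ∧ v ≠ 0 ∧ h⟪u, u⟫ = 0 ∧ h⟪v, v⟫ = 0 ∧ h⟪u, v⟫ ≠ 0 ∧
      Submodule.span F (Set.range ![u, v]) = U := by
  have hb : Nat.card ↥(U ⊓ orth U) = 1 := by rw [card_sub hF, hn, finrank_bot, pow_zero]
  have h10 : {w : Fin 6 → F | w ∈ U ∧ h⟪w, w⟫ = 0}.ncard = 10 := by
    rw [← Nat.card_coe_set_eq]
    show Nat.card {w : Fin 6 → F // w ∈ U ∧ h⟪w, w⟫ = 0} = 10
    rw [card_null_sub hF (by rw [hn, finrank_bot, h2]), hb]
  obtain ⟨u, ⟨hu, huu⟩, hu0⟩ := Set.exists_mem_notMem_of_ncard_lt_ncard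
    (by rw [h10, Set.ncard_singleton]; norm_num :
      ({0} : Set (Fin 6 → F)).ncard < {w : Fin 6 → F | w ∈ U ∧ h⟪w, w⟫ = 0}.ncard) (Set.finite_singleton 0)
  have hline : (Set.range fun c : F => c • u).ncard < {w : Fin 6 → F | w ∈ U ∧ h⟪w, w⟫ = 0}.ncard := by
    rw [h10, ← Nat.card_coe_set_eq]
    refine lt_of_le_of_lt (Finite.card_range_le _) ?_
    rw [Nat.card_eq_fintype_card, hF]; norm_num
  obtain ⟨v, ⟨hv, hvv⟩, hv1⟩ := Set.exists_mem_notMem_of_ncard_lt_ncard hline (Set.toFinite _)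
  have huv : h⟪u, v⟫ ≠ 0 := fun h => hv1 <| by
    obtain ⟨c, hc⟩ := parallel_of_orth hF h2 hn hu (fun e => hu0 (Set.mem_singleton_iff.mpr e)) huu hv h
    exact ⟨c, hc.symm⟩
  have hu0' : u ≠ 0 := fun e => hu0 (Set.mem_singleton_iff.mpr e)
  refine ⟨u, v, hu, hv, hu0', fun e => hv1 ⟨0, by simp [e]⟩, huu, hvv, huv, ?_⟩
  refine Submodule.eq_of_le_of_finrank_eq (Submodule.span_le.mpr ?_) ?_
  · rintro _ ⟨i, rfl⟩
    fin_cases i <;> assumption
  · have hli : LinearIndependent F ![u, v] :=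
      (LinearIndependent.pair_iff' hu0').mpr fun c hc => hv1 ⟨c, hc⟩
    rw [finrank_span_eq_card hli, Fintype.card_fin, h2]

/-- scalar elements -/
theorem exists_scalar (hF : Fintype.card F = 2 ^ 2) {c : F} (hc : c ≠ 0) :
    ∃ z : Cfsg.SU 6 F 2, z ∈ Subgroup.center (Cfsg.SU 6 F 2) ∧ ∀ v, act z v = c • v := by
  have hscal : ∀ v : Fin 6 → F, (Matrix.scalar (Fin 6) c : Matrix (Fin 6) (Fin 6) F) *ᵥ v = c • v :=
    fun v => by ext i; simp [Matrix.scalar_apply, Matrix.mulVec_diagonal]
  have h6 : c ^ 6 = 1 := by rw [show (6 : ℕ) = 3 * 2 from rfl, pow_mul, cube_eq_one hF hc, one_pow]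
  let z : Cfsg.SU 6 F 2 := ⟨⟨Matrix.scalar (Fin 6) c, by simp [Matrix.scalar_apply, h6]⟩, fun u v => by
    show Cfsg.hermForm 6 F 2 (Matrix.scalar (Fin 6) c *ᵥ u) (Matrix.scalar (Fin 6) c *ᵥ v) = _
    rw [hscal, hscal, herm_smul_left, herm_smul_right, ← mul_assoc, norm_eq_one hF hc, one_mul]⟩
  exact ⟨z, (Cfsg.Agent.Lib.Unitary.mem_center_SU_iff hF (by norm_num) z).mpr ⟨c, hscal⟩, hscal⟩

/-- the elements centralising `x` and fixing its fixed vectors -/
def fixer (x : Cfsg.SU 6 F 2) : Subgroup (Cfsg.SU 6 F 2) :=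
  Subgroup.centralizer ({x} : Set (Cfsg.SU 6 F 2)) ⊓
    { carrier := {g | ∀ u ∈ fixS x, act g u = u}
      one_mem' := fun u _ => act_one u
      mul_mem' := fun {g h} hg hh u hu => by rw [act_mul, hh u hu, hg u hu]
      inv_mem' := fun {g} hg u hu => by
        conv_lhs => rw [← hg u hu]
        rw [act_inv_self] }

theorem mem_fixer {g : Cfsg.SU 6 F 2} : g ∈ fixer x ↔ g * x = x * g ∧ fixS x ≤ fixS g := by
  simp only [fixer, Subgroup.mem_inf, Subgroup.mem_centralizer_singleton_iff]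
  exact and_congr_right fun _ => ⟨fun h u hu => mem_fixS.mpr (h u hu), fun h u hu => mem_fixS.mp (h hu)⟩

variable {y : Cfsg.SU 6 F 2}

theorem fix_even (hF : Fintype.card F = 2 ^ 2) (hx : orderOf x = 5) (hc : y * x = x * y)
    (hfix : fixS x ≤ fixS y) :
    finrank F (fixS y) = 2 ∨ finrank F (fixS y) = 4 ∨ finrank F (fixS y) = 6 := by
  have h := card_fixed_mod hx (U := fixS y) fun u hu => fixS_invariant hc.symm hu
  rw [inf_eq_right.mpr hfix, card_sub hF, card_sub hF, (fix_spec hF hx).1] at h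
  have hk : finrank F (fixS y) ≤ 6 := (Submodule.finrank_le _).trans (finrank_fin_fun F).le
  have hge : 2 ≤ finrank F (fixS y) := (fix_spec hF hx).1 ▸ Submodule.finrank_mono hfix
  generalize finrank F (fixS y) = k at *
  interval_cases k <;> simp_all [Nat.ModEq]

theorem no_involution (hF : Fintype.card F = 2 ^ 2) (hx : orderOf x = 5) (hy : y * y = 1) (hy1 : y ≠ 1)
    (hc : y * x = x * y) (hfix : fixS x ≤ fixS y) : False := by
  rcases fix_even hF hx hc hfix with h2 | h4 | h6
  · have h := (L y - LinearMap.id).finrank_range_add_finrank_ker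
    have hle : LinearMap.range (L y - LinearMap.id) ≤ fixS y := by
      rintro _ ⟨v, rfl⟩
      rw [mem_fixS, LinearMap.sub_apply, LinearMap.id_apply, ← Eleven.L_apply, map_sub, Eleven.L_apply, Eleven.L_apply,
        ← act_mul, hy, act_one]
      rw [sub_eq_sub_iff_add_eq_add, add_self_zero hF, add_self_zero hF]
    have hr := Submodule.finrank_mono hle
    rw [finrank_fin_fun] at h
    change _ + finrank F (fixS y) = 6 at h
    omega
  · let H : Herm F (Fin 6 → F) :=
      { B := fun u w => h⟪nil y u, w⟫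
        add_left := fun u w z => by rw [nil_add, herm_add_left]
        smul_left := fun a u w => by rw [nil_smul, herm_smul_left]
        symm := fun u w => by rw [herm_conj _ _ hF, herm_nil_left hF hy] }
    have hR : ∀ u, (∀ w, H.B u w = 0) ↔ u ∈ fixS y := by
      intro u
      constructor
      · intro hu
        have h0 : nil y u = 0 := herm_nondeg_left hF hu
        rw [mem_fixS, act_eq_nil hF, h0, add_zero]
      · intro hu w
        show h⟪nil y u, w⟫ = 0
        rw [show nil y u = 0 by rw [nil, mem_fixS.mp hu, add_self_zero hF], herm_zero_left]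
    have hcount := H.card_null_two hF hR (by rw [h4, finrank_fin_fun])
    rw [card_sub hF, h4] at hcount
    have hinv : ∀ u, nil y (act x u) = act x (nil y u) := fun u => by
      rw [nil, nil, act_add, comm_act hc]
    have hm := set_modEq (by norm_num) (pow_five hx) {u | h⟪nil y u, u⟫ = 0} (fun u hu => by
      show h⟪nil y (act x u), act x u⟫ = 0
      rw [hinv, act_herm]; exact hu)
    have e2 : Nat.card {v : Fin 6 → F // v ∈ {u | h⟪nil y u, u⟫ = 0} ∧ act x v = v} = 16 := by
      have e : Nat.card {v : Fin 6 → F // v ∈ {u | h⟪nil y u, u⟫ = 0} ∧ act x v = v} = Nat.card (fixS x) :=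
        Nat.card_congr (Equiv.subtypeEquivRight fun v => ⟨fun h => mem_fixS.mpr h.2,
          fun h => ⟨(hR v).mpr (hfix h) v, mem_fixS.mp h⟩⟩)
      rw [e, card_sub hF, (fix_spec hF hx).1]
      norm_num
    rw [e2] at hm
    change Nat.card {v : Fin 6 → F // h⟪nil y v, v⟫ = 0} ≡ 16 [MOD 5] at hm
    rw [hcount] at hm
    simp [Nat.ModEq] at hm
  · exact hy1 (eq_one_of_fixS y h6)

theorem fix_eq (hF : Fintype.card F = 2 ^ 2) (hx : orderOf x = 5) (hy : y * y ≠ 1)
    (hc : y * x = x * y) (hfix : fixS x ≤ fixS y) : fixS y = fixS x := by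
  obtain ⟨hk, hn⟩ := fix_spec hF hx
  rcases fix_even hF hx hc hfix with h2 | h4 | h6
  · exact (Submodule.eq_of_le_of_finrank_eq hfix (by rw [hk, h2])).symm
  · exfalso
    set V := fixS y
    have hV : ∀ u ∈ V, act x u ∈ V := fun u hu => fixS_invariant hc.symm hu
    have hO := orth_invariant hx hV
    have hfree : ∀ u ∈ orth V, act x u = u → u = 0 := fun u hu hxu =>
      (Submodule.eq_bot_iff _).mp hn u ⟨mem_fixS.mpr hxu, fun w hw => hu w (hfix hw)⟩
    have hdim : finrank F (orth V) = 2 := by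
      have := finrank_perp (q := 2) hF V
      change finrank F (orth V) + _ = 6 at this
      omega
    have hrad : orth V ⊓ orth (orth V) = V ⊓ orth V := by
      rw [show orth (orth V) = V from perp_perp hF V, inf_comm]
    have hle : finrank F ↥(V ⊓ orth V) ≤ 2 := hdim ▸ Submodule.finrank_mono inf_le_right
    rcases even_of_free hF hx (radical_invariant hx hV) (fun u hu => hfree u hu.2) with h | h | h | h
    · refine not_two hF hx hO (by rw [hrad, h, hdim]) fun v hv hxv => ?_
      rw [hfree v hv hxv]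
      exact zero_mem _
    · exact hy (sq_eq_one hF
        ((Submodule.eq_of_le_of_finrank_eq inf_le_right (by rw [h, hdim]) : V ⊓ orth V = orth V).ge.trans
          inf_le_left))
    · omega
    · omega
  · exact absurd (by rw [eq_one_of_fixS y h6, one_mul]) hy

theorem no_three (hF : Fintype.card F = 2 ^ 2) (hx : orderOf x = 5) (hy : orderOf y = 3)
    (hc : y * x = x * y) (hfix : fixS x ≤ fixS y) : False := by
  obtain ⟨hk, hn⟩ := fix_spec hF hx
  have hy1 : y ≠ 1 := fun h => by rw [h, orderOf_one] at hy; omega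
  have hy3 : y ^ 3 = 1 := hy ▸ pow_orderOf_eq_one y
  have hy2 : y * y ≠ 1 := fun h => hy1 (by
    rwa [show (3 : ℕ) = 2 + 1 from rfl, pow_succ, pow_two, h, one_mul] at hy3)
  have hUy := fix_eq hF hx hy2 hc hfix
  obtain ⟨w, hw0, hw1, hw⟩ := exists_omega hF
  have hw3 := cube_eq_one hF hw0
  set U := fixS x
  set W := orth U
  let E : F → Submodule F (Fin 6 → F) := fun c => LinearMap.ker (L y - c • LinearMap.id)
  have hmem : ∀ c v, v ∈ E c ↔ act y v = c • v := fun c v => by
    simp [E, LinearMap.mem_ker, sub_eq_zero, Eleven.L_apply]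
  have hEinv : ∀ c, ∀ v ∈ E c, act x v ∈ E c := fun c v hv => by
    rw [hmem] at hv ⊢
    rw [comm_act hc, hv, act_smul]
  have hy3' : ∀ v, act y (act y (act y v)) = v := fun v => by
    rw [← act_mul, ← act_mul, show y * y * y = y ^ 3 by rw [pow_three, mul_assoc], hy3, act_one]
  have hEW : ∀ c, c ^ 2 ≠ 1 → E c ≤ W := fun c hc2 v hv u hu => by
    rw [hmem] at hv
    have e := act_herm y v u
    rw [hv, mem_fixS.mp (hfix hu), herm_smul_left] at e
    refine (mul_eq_zero.mp (show (c - 1) * h⟪v, u⟫ = 0 by linear_combination e)).resolve_left ?_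
    exact sub_ne_zero.mpr fun h1 => hc2 (by rw [h1, one_pow])
  have hw2 : w ^ 2 ≠ 1 := fun h => hw1 (by linear_combination hw3 - w * h)
  have hw22 : (w ^ 2) ^ 2 ≠ 1 := fun h => hw1 (by linear_combination h - w * hw3)
  have horth : ∀ u ∈ E w, ∀ v ∈ E (w ^ 2), h⟪u, v⟫ = 0 := by
    intro u hu v hv
    rw [hmem] at hu hv
    have e := act_herm y u v
    rw [hu, hv, herm_smul_left, herm_smul_right] at e
    refine (mul_eq_zero.mp (show (w ^ 2 - 1) * h⟪u, v⟫ = 0 by
      linear_combination e - h⟪u, v⟫ * w ^ 2 * hw3)).resolve_left (sub_ne_zero.mpr hw2)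
  -- the three components of a vector
  have hP : ∀ c, c ^ 3 = 1 → ∀ v, v + c ^ 2 • act y v + c • act y (act y v) ∈ E c := fun c hc3 v => by
    rw [hmem, act_add, act_add, act_smul, act_smul, hy3', smul_add, smul_add, smul_smul, smul_smul,
      show c * c ^ 2 = 1 by rw [← hc3]; ring, one_smul, ← pow_two]
    abel
  have hsum : ∀ v, (v + (1 : F) ^ 2 • act y v + (1 : F) • act y (act y v)) +
      (v + w ^ 2 • act y v + w • act y (act y v)) +
      (v + (w ^ 2) ^ 2 • act y v + w ^ 2 • act y (act y v)) = v := fun v => by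
    match_scalars
    · linear_combination two_eq_zero hF
    · linear_combination hw + w * hw3
    · linear_combination hw
  have hE1 : E 1 ≤ U := fun v hv => by
    rw [hmem, one_smul] at hv
    rw [← hUy]; exact mem_fixS.mpr hv
  have hsplit : ∀ v, ∃ a ∈ U, ∃ b ∈ E w, ∃ c ∈ E (w ^ 2), a + b + c = v := fun v =>
    ⟨_, hE1 (hP 1 (one_pow 3) v), _, hP w hw3 v, _,
      hP (w ^ 2) (by rw [← pow_mul, show 2 * 3 = 3 * 2 from rfl, pow_mul, hw3, one_pow]) v, hsum v⟩
  have hfree : ∀ c, c ^ 2 ≠ 1 → ∀ u ∈ E c, act x u = u → u = 0 := fun c hc2 u hu hxu =>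
    (Submodule.eq_bot_iff _).mp hn u ⟨mem_fixS.mpr hxu, hEW c hc2 hu⟩
  have hdim : finrank F W = 4 := by
    have h := finrank_perp (q := 2) hF U
    change finrank F W + _ = 6 at h
    omega
  have hcompl : IsCompl U W :=
    isCompl_perp hF (nondeg_iff_disjoint.mpr hn)
  have hdet : ∀ c, c ^ 3 = 1 → c ≠ 1 → W ≤ E c → False := fun c hc3 hc1 hle => by
    let e := Submodule.prodEquivOfIsCompl _ _ hcompl
    have hconj : L y = (e.toLinearMap ∘ₗ (LinearMap.id.prodMap (c • LinearMap.id))) ∘ₗ e.symm.toLinearMap := by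
      apply LinearMap.ext
      intro u
      obtain ⟨⟨a, b⟩, rfl⟩ := e.surjective u
      simp [e, Eleven.L_apply, act_add, mem_fixS.mp (hfix a.2), (hmem c b.1).mp (hle b.2)]
    have h := det_L y
    rw [hconj, LinearMap.comp_assoc, LinearMap.det_conj, LinearMap.det_prodMap, LinearMap.det_id,
      LinearMap.det_smul, LinearMap.det_id, hdim, one_mul, mul_one] at h
    exact hc1 (by linear_combination h - c * hc3)
  have hle : finrank F (E w) ≤ 4 := (Submodule.finrank_mono (hEW w hw2)).trans hdim.le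
  rcases even_of_free hF hx (hEinv w) (hfree w hw2) with ha | ha | ha | ha
  · refine hdet (w ^ 2) (by rw [← pow_mul, show 2 * 3 = 3 * 2 from rfl, pow_mul, hw3, one_pow]) hw2
      fun v hv => ?_
    obtain ⟨a, haU, b, hb, c, hc', e⟩ := hsplit v
    have hb0 : b = 0 := (Submodule.eq_bot_iff _).mp (Submodule.finrank_eq_zero.mp ha) b hb
    have ha0 : a = 0 := by
      refine (Submodule.eq_bot_iff _).mp hn a ⟨haU, ?_⟩
      have : a = v - c := by rw [← e, hb0]; abel
      rw [this]
      exact sub_mem hv (hEW _ hw22 hc')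
    rw [← e, ha0, hb0, zero_add, zero_add]
    exact hc'
  · refine not_two hF hx (hEinv w) ?_ fun v hv hxv => ?_
    · have hbot : E w ⊓ orth (E w) = ⊥ := by
        rw [Submodule.eq_bot_iff]
        intro u hu
        refine herm_nondeg_left hF fun v => ?_
        obtain ⟨a, haU, b, hb, c, hc', e⟩ := hsplit v
        rw [← e, herm_add_right _ _ _ hF, herm_add_right _ _ _ hF, hEW w hw2 hu.1 a haU, hu.2 b hb,
          horth u hu.1 c hc', zero_add, zero_add]
      rw [hbot, finrank_bot, ha]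
    · rw [hfree w hw2 v hv hxv]
      exact zero_mem _
  · exact hdet w hw3 hw1 (Submodule.eq_of_le_of_finrank_eq (hEW w hw2) (by rw [ha, hdim])).ge
  · omega

theorem card_fixer_le (hF : Fintype.card F = 2 ^ 2) (hx : orderOf x = 5) :
    Nat.card (fixer x) ≤ 5 := by
  have hn : Nat.card (fixer x) ∣ 3 * (2 ^ 15 * 3 ^ 6 * 5 * 7 * 11) :=
    card_SU_six hF ▸ Subgroup.card_subgroup_dvd_card _
  have hall : ∀ {r : ℕ}, r.Prime → r ∣ Nat.card (fixer x) → r = 5 := by
    intro r hr hd
    have : Fact r.Prime := ⟨hr⟩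
    obtain ⟨y, hy⟩ := exists_prime_orderOf_dvd_card' (G := fixer x) r hd
    rw [← Subgroup.orderOf_coe] at hy
    obtain ⟨hc, hfix⟩ := mem_fixer.mp y.2
    have hy1 : (y : Cfsg.SU 6 F 2) ≠ 1 := fun h => by
      rw [h, orderOf_one] at hy; exact hr.ne_one hy.symm
    have hyr : (y : Cfsg.SU 6 F 2) ^ r = 1 := hy ▸ pow_orderOf_eq_one _
    by_contra hr5
    by_cases hr2 : r = 2
    · subst hr2
      exact no_involution hF hx (by rwa [pow_two] at hyr) hy1 hc hfix
    by_cases hr3 : r = 3
    · subst hr3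
      exact no_three hF hx hy hc hfix
    have hy2 : (y : Cfsg.SU 6 F 2) * y ≠ 1 := fun h => hr2 (by
      have hdvd : orderOf (y : Cfsg.SU 6 F 2) ∣ 2 := orderOf_dvd_of_pow_eq_one (by rw [pow_two, h])
      rw [hy] at hdvd
      exact (Nat.prime_dvd_prime_iff_eq hr Nat.prime_two).mp hdvd)
    have hUy := fix_eq hF hx hy2 hc hfix
    obtain ⟨hk, hnd⟩ := fix_spec hF hx
    have hm := set_modEq hr hyr (↑(orth (fixS x)) : Set (Fin 6 → F)) (orth_invariant_of_fix hfix)
    have e : Nat.card {v : Fin 6 → F // v ∈ (↑(orth (fixS x)) : Set (Fin 6 → F)) ∧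
        act (y : Cfsg.SU 6 F 2) v = v} = 1 := by
      rw [Nat.card_eq_one_iff_unique]
      refine ⟨⟨fun a b => Subtype.ext ?_⟩, ⟨⟨0, zero_mem _, (L (y : Cfsg.SU 6 F 2)).map_zero⟩⟩⟩
      have h0 : ∀ v : {v : Fin 6 → F // v ∈ (↑(orth (fixS x)) : Set (Fin 6 → F)) ∧
          act (y : Cfsg.SU 6 F 2) v = v}, v.1 = 0 := fun v =>
        (Submodule.eq_bot_iff _).mp hnd v.1 ⟨hUy.le (mem_fixS.mpr v.2.2), v.2.1⟩
      rw [h0 a, h0 b]
    rw [e] at hm
    have hW : Nat.card (↑(orth (fixS x)) : Set (Fin 6 → F)) = 256 := by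
      have h := finrank_perp (q := 2) hF (fixS x)
      change finrank F (orth (fixS x)) + _ = 6 at h
      show Nat.card (orth (fixS x)) = 256
      rw [card_sub hF, show finrank F (orth (fixS x)) = 4 by omega]
      norm_num
    rw [hW] at hm
    have h255 : r ∣ 255 := (Nat.modEq_iff_dvd' (show 1 ≤ 256 by norm_num)).mp hm.symm
    have h17 : r ∣ 255 ∧ r ∣ 3 * (2 ^ 15 * 3 ^ 6 * 5 * 7 * 11) := ⟨h255, hd.trans hn⟩
    have hg := Nat.dvd_gcd h17.1 h17.2
    rw [show Nat.gcd 255 (3 * (2 ^ 15 * 3 ^ 6 * 5 * 7 * 11)) = 3 * 5 by decide] at hg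
    rcases (Nat.Prime.dvd_mul hr).mp hg with h | h
    · exact hr3 ((Nat.prime_dvd_prime_iff_eq hr Nat.prime_three).mp h)
    · exact hr5 ((Nat.prime_dvd_prime_iff_eq hr (by norm_num)).mp h)
  have he := Nat.eq_prime_pow_of_unique_prime_dvd Nat.card_pos.ne' hall
  rw [he] at hn ⊢
  set l := (Nat.card (fixer x)).primeFactorsList.length
  by_contra hlt
  have h2 : 2 ≤ l := by
    by_contra h
    interval_cases l <;> simp at hlt
  have h25 := (pow_dvd_pow 5 h2).trans hn
  norm_num at h25

end Cfsg.Agent.Lib.FischerMTypes.Five
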