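import Mathlib

/-!
Partitions of a small set in which every edge of a block has a prescribed number of disjoint edges inside
blocks: one block missing exactly one point.
-/

set_option autoImplicit false
set_option linter.style.haveILetI false

namespace Cfsg.Agent.Lib.FischerMTypes.Five

/-- the representatives of the points below `n` in all partitions of them -/
def reps : ℕ → List (List ℕ)
  | 0 => [[]]
  | n + 1 => (reps n).flatMap fun l =>
      ((List.range n).filter fun j => l.getD j 0 == j).map (fun j => l ++ [j]) ++ [l ++ [n]]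

/-- pairs of points below `n` -/
def pairs (n : ℕ) : List (ℕ × ℕ) :=
  (List.range n).flatMap fun j => (List.range j).map fun i => (i, j)

/-- the pair lies inside a block -/
def same (l : List ℕ) (p : ℕ × ℕ) : Bool := l.getD p.1 0 == l.getD p.2 0

/-- two pairs without common point -/
def dis (p q : ℕ × ℕ) : Bool := p.1 != q.1 && p.1 != q.2 && p.2 != q.1 && p.2 != q.2

/-- the test for one partition -/
def check (n deg tot : ℕ) (l : List ℕ) : Bool :=
  let ps := (pairs n).filter (same l)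
  ps.isEmpty || (tot != 0 && ps.length != tot) ||
    ps.any (fun p => (ps.filter (dis p)).length != deg) ||
    (List.range n).any (fun z => (pairs n).all fun p => same l p == (p.1 != z && p.2 != z))

theorem check_three : ((reps 3).all (check 3 0 1)) = true := by decide +kernel

theorem check_five : ((reps 5).all (check 5 1 6)) = true := by decide +kernel

theorem check_seven : ((reps 7).all (check 7 6 0)) = true := by decide +kernel

/-- two-element subsets as increasing pairs -/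
abbrev Kn (n : ℕ) : Type := {p : Fin n × Fin n // p.1 < p.2}

/-- no common point -/
def Dis {n : ℕ} (p q : Kn n) : Prop := p.1.1 ≠ q.1.1 ∧ p.1.1 ≠ q.1.2 ∧ p.1.2 ≠ q.1.1 ∧ p.1.2 ≠ q.1.2

theorem mem_pairs {n : ℕ} {x : ℕ × ℕ} : x ∈ pairs n ↔ x.1 < x.2 ∧ x.2 < n := by
  simp only [pairs, List.mem_flatMap, List.mem_range, List.mem_map]
  constructor
  · rintro ⟨j, hj, i, hi, rfl⟩
    exact ⟨hi, hj⟩
  · rintro ⟨h1, h2⟩
    exact ⟨x.2, h2, x.1, h1, rfl⟩

theorem length_filter {n : ℕ} (hnd : (pairs n).Nodup) (f : ℕ × ℕ → Bool) :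
    ((pairs n).filter f).length = {p : Kn n | f ((p.1.1 : ℕ), (p.1.2 : ℕ)) = true}.ncard := by
  classical
  rw [← List.toFinset_card_of_nodup (hnd.filter f), ← Set.ncard_coe_finset]
  refine (Set.ncard_congr (fun p _ => ((p.1.1 : ℕ), (p.1.2 : ℕ))) (fun p hp => ?_) (fun p q _ _ h => ?_)
    (fun x hx => ?_)).symm
  · simp only [List.coe_toFinset, Set.mem_ofPred_eq, List.mem_filter, mem_pairs] at hp ⊢
    exact ⟨⟨p.2, p.1.2.isLt⟩, hp⟩
  · simp only [Prod.mk.injEq] at h
    exact Subtype.ext (Prod.ext (Fin.ext h.1) (Fin.ext h.2))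
  · simp only [List.coe_toFinset, Set.mem_ofPred_eq, List.mem_filter, mem_pairs] at hx
    exact ⟨⟨(⟨x.1, by omega⟩, ⟨x.2, hx.1.2⟩), hx.1.1⟩, hx.2, rfl⟩

theorem nodup_pairs : ∀ n ≤ 7, (pairs n).Nodup := by decide +kernel

theorem range_map_mem_reps (g : ℕ → ℕ) : ∀ k, (∀ j < k, g j ≤ j ∧ g (g j) = g j) →
    (List.range k).map g ∈ reps k := by
  intro k
  induction k with
  | zero => intro _; simp [reps]
  | succ k ih =>
    intro h
    have hk := h k (Nat.lt_succ_self k)
    simp only [reps, List.mem_flatMap]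
    refine ⟨_, ih fun j hj => h j (by omega), ?_⟩
    rw [List.range_succ, List.map_append, List.map_cons, List.map_nil, List.mem_append, List.mem_singleton]
    rcases Nat.lt_or_eq_of_le hk.1 with hlt | heq
    · refine Or.inl (List.mem_map.mpr ⟨g k, List.mem_filter.mpr ⟨List.mem_range.mpr hlt, ?_⟩, rfl⟩)
      simp [List.getD_eq_getElem?_getD, List.getElem?_range hlt, hk.2]
    · exact Or.inr (by rw [heq])

/-- the only possible partition has one block missing one point -/
theorem exists_point {n deg tot : ℕ} (hn : n ≤ 7) (hcheck : ((reps n).all (check n deg tot)) = true)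
    (R : Fin n → Fin n → Prop) (hR : Equivalence R)
    (hne : ∃ p : Kn n, R p.1.1 p.1.2)
    (hdeg : ∀ p : Kn n, R p.1.1 p.1.2 → {q : Kn n | R q.1.1 q.1.2 ∧ Dis p q}.ncard = deg)
    (htot : tot ≠ 0 → {p : Kn n | R p.1.1 p.1.2}.ncard = tot) :
    ∃ z : Fin n, ∀ p : Kn n, R p.1.1 p.1.2 ↔ p.1.1 ≠ z ∧ p.1.2 ≠ z := by
  classical
  have hex : ∀ j : Fin n, ∃ i, ∃ h : i < n, R ⟨i, h⟩ j := fun j => ⟨j, j.isLt, hR.refl j⟩
  let g : ℕ → ℕ := fun j => if h : j < n then Nat.find (hex ⟨j, h⟩) else j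
  have hg : ∀ j : Fin n, ∃ h : g j < n, R ⟨g j, h⟩ j ∧ g j ≤ j := fun j => by
    simp only [g, dif_pos j.isLt, Fin.eta]
    obtain ⟨h, hr⟩ := Nat.find_spec (hex j)
    exact ⟨h, hr, Nat.find_min' _ ⟨j.isLt, hR.refl j⟩⟩
  have hiff : ∀ a b : Fin n, R a b ↔ g a = g b := by
    intro a b
    constructor
    · intro h
      simp only [g, dif_pos a.isLt, dif_pos b.isLt, Fin.eta]
      refine Nat.find_congr' ?_
      exact fun {i} => ⟨fun ⟨hi, hr⟩ => ⟨hi, hR.trans hr h⟩, fun ⟨hi, hr⟩ => ⟨hi, hR.trans hr (hR.symm h)⟩⟩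
    · intro h
      obtain ⟨ha, ha', -⟩ := hg a
      obtain ⟨hb, hb', -⟩ := hg b
      have e : (⟨g a, ha⟩ : Fin n) = ⟨g b, hb⟩ := Fin.ext h
      exact hR.trans (hR.symm ha') (e ▸ hb')
  set l := (List.range n).map g with hl
  have hmem : l ∈ reps n := range_map_mem_reps g n fun j hj => by
    obtain ⟨h, hr, hle⟩ := hg ⟨j, hj⟩
    exact ⟨hle, (hiff ⟨g j, h⟩ ⟨j, hj⟩).mp hr⟩
  have hsame : ∀ p : Kn n, same l ((p.1.1 : ℕ), (p.1.2 : ℕ)) = true ↔ R p.1.1 p.1.2 := fun p => by
    rw [hiff]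
    simp [same, hl, List.getD_eq_getElem?_getD]
  have hdis : ∀ p q : Kn n, dis ((p.1.1 : ℕ), (p.1.2 : ℕ)) ((q.1.1 : ℕ), (q.1.2 : ℕ)) = true ↔ Dis p q :=
    fun p q => by simp [dis, Dis, Fin.ext_iff, and_assoc]
  have h := List.all_eq_true.mp hcheck l hmem
  simp only [check, Bool.or_eq_true] at h
  have hnd := nodup_pairs n hn
  rcases h with ((h | h) | h) | h
  · exfalso
    obtain ⟨p, hp⟩ := hne
    have : ((p.1.1 : ℕ), (p.1.2 : ℕ)) ∈ (pairs n).filter (same l) :=
      List.mem_filter.mpr ⟨mem_pairs.mpr ⟨p.2, p.1.2.isLt⟩, (hsame p).mpr hp⟩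
    rw [List.isEmpty_iff.mp h] at this
    exact List.not_mem_nil this
  · exfalso
    simp only [Bool.and_eq_true, bne_iff_ne] at h
    refine h.2 ?_
    rw [length_filter hnd, ← htot h.1]
    congr 1
    ext p
    exact hsame p
  · exfalso
    obtain ⟨x, hx, hbad⟩ := List.any_eq_true.mp h
    obtain ⟨hx1, hx2⟩ := List.mem_filter.mp hx
    obtain ⟨hlt, hlt2⟩ := mem_pairs.mp hx1
    let p : Kn n := ⟨(⟨x.1, by omega⟩, ⟨x.2, hlt2⟩), hlt⟩
    refine (bne_iff_ne.mp hbad) ?_
    rw [List.filter_filter, length_filter hnd, ← hdeg p ((hsame p).mp hx2)]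
    congr 1
    ext q
    simp only [Set.mem_ofPred_eq, Bool.and_eq_true]
    rw [hsame q, show x = ((p.1.1 : ℕ), (p.1.2 : ℕ)) from rfl, hdis p q]
    exact and_comm
  · obtain ⟨z, hz, hall⟩ := List.any_eq_true.mp h
    refine ⟨⟨z, List.mem_range.mp hz⟩, fun p => ?_⟩
    have := List.all_eq_true.mp hall ((p.1.1 : ℕ), (p.1.2 : ℕ)) (mem_pairs.mpr ⟨p.2, p.1.2.isLt⟩)
    rw [beq_iff_eq] at this
    rw [← hsame p, this]
    simp [Fin.ext_iff]

end Cfsg.Agent.Lib.FischerMTypes.Five
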