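import Mathlib
import Cfsg.Agent.Lib.FischerMTypes.Prime.SymChain
import Cfsg.Agent.Lib.FischerMTypes.Five.Blocks

/-!
Sets of transpositions shaped like the transpositions of a symmetric group.
-/

set_option autoImplicit false
set_option linter.style.haveILetI false
set_option linter.unusedSectionVars false

namespace Cfsg.Agent.Lib.FischerMTypes.Five

variable {G : Type*} [Group G] {n : ℕ}

/-- the transposition at a pair -/
def sw (p : Kn n) : Equiv.Perm (Fin n) := Equiv.swap p.1.1 p.1.2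

theorem sw_isSwap (p : Kn n) : (sw p).IsSwap := ⟨_, _, p.2.ne, rfl⟩

theorem exists_sw {σ : Equiv.Perm (Fin n)} (h : σ.IsSwap) : ∃ p : Kn n, sw p = σ := by
  obtain ⟨x, y, hxy, rfl⟩ := h
  rcases lt_or_gt_of_ne hxy with h | h
  · exact ⟨⟨(x, y), h⟩, rfl⟩
  · exact ⟨⟨(y, x), h⟩, Equiv.swap_comm y x⟩

/-- `a` is an end of `p` -/
def Has (p : Kn n) (a : Fin n) : Prop := p.1.1 = a ∨ p.1.2 = a

theorem sw_of_has {p : Kn n} {a b : Fin n} (ha : Has p a) (hb : Has p b) (hab : a ≠ b) :
    sw p = Equiv.swap a b := by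
  rcases ha with rfl | rfl <;> rcases hb with rfl | rfl
  · exact absurd rfl hab
  · rfl
  · exact Equiv.swap_comm _ _
  · exact absurd rfl hab

theorem has_unique {p : Kn n} {a b c : Fin n} (ha : Has p a) (hb : Has p b) (hc : Has p c) (hab : a ≠ b) :
    c = a ∨ c = b := by
  rcases ha with rfl | rfl <;> rcases hb with rfl | rfl <;> rcases hc with rfl | rfl <;> simp_all

theorem exists_other {p : Kn n} {a : Fin n} (ha : Has p a) : ∃ b, Has p b ∧ b ≠ a := by
  rcases ha with rfl | rfl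
  · exact ⟨p.1.2, Or.inr rfl, p.2.ne'⟩
  · exact ⟨p.1.1, Or.inl rfl, p.2.ne⟩

theorem exists_pair {a b : Fin n} (h : a ≠ b) : ∃ p : Kn n, Has p a ∧ Has p b := by
  rcases lt_or_gt_of_ne h with h | h
  · exact ⟨⟨(a, b), h⟩, Or.inl rfl, Or.inr rfl⟩
  · exact ⟨⟨(b, a), h⟩, Or.inr rfl, Or.inl rfl⟩

theorem kn_ext {p q : Kn n} {a b : Fin n} (hab : a ≠ b) (h1 : Has p a) (h2 : Has p b) (h3 : Has q a)
    (h4 : Has q b) : p = q := by
  have := p.2; have := q.2
  rcases h1 with rfl | rfl <;> rcases h2 with rfl | rfl <;> rcases h3 with h3 | h3 <;>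
    rcases h4 with h4 | h4 <;>
    first
      | exact absurd rfl hab
      | exact absurd (h3.symm.trans h4) hab
      | exact Subtype.ext (Prod.ext h3.symm h4.symm)
      | exact Subtype.ext (Prod.ext h4.symm h3.symm)
      | omega

theorem dis_iff {p q : Kn n} : Dis p q ↔ ∀ a, Has p a → ¬ Has q a := by
  constructor
  · rintro ⟨h1, h2, h3, h4⟩ a (rfl | rfl) (h | h)
    exacts [h1 h.symm, h2 h.symm, h3 h.symm, h4 h.symm]
  · intro h
    exact ⟨fun e => h _ (Or.inl rfl) (Or.inl e.symm), fun e => h _ (Or.inl rfl) (Or.inr e.symm),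
      fun e => h _ (Or.inr rfl) (Or.inl e.symm), fun e => h _ (Or.inr rfl) (Or.inr e.symm)⟩

theorem exists_common {p q : Kn n} (h : ¬ Dis p q) : ∃ a, Has p a ∧ Has q a := by
  rw [dis_iff] at h; push Not at h; exact h

theorem dis_symm {p q : Kn n} (h : Dis p q) : Dis q p :=
  dis_iff.mpr fun a ha hb => dis_iff.mp h a hb ha

theorem sw_inj : Function.Injective (sw (n := n)) := by
  intro p q h
  have hmem : ∀ {r : Kn n} {a : Fin n}, sw r a ≠ a ↔ Has r a := fun {r a} => by
    constructor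
    · intro hne
      by_contra hcon
      simp only [Has, not_or] at hcon
      exact hne (Equiv.swap_apply_of_ne_of_ne (Ne.symm hcon.1) (Ne.symm hcon.2))
    · rintro (rfl | rfl)
      · simpa [sw] using r.2.ne'
      · simpa [sw] using r.2.ne
  have h1 : Has q p.1.1 := hmem.mp (h ▸ hmem.mpr (Or.inl rfl))
  have h2 : Has q p.1.2 := hmem.mp (h ▸ hmem.mpr (Or.inr rfl))
  exact kn_ext p.2.ne (Or.inl rfl) (Or.inr rfl) h1 h2

theorem sw_commute {p q : Kn n} : Commute (sw p) (sw q) ↔ p = q ∨ Dis p q := by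
  constructor
  · intro hc
    by_contra hcon
    push Not at hcon
    obtain ⟨hne, hnd⟩ := hcon
    obtain ⟨a, hpa, hqa⟩ := exists_common hnd
    obtain ⟨b, hpb, hba⟩ := exists_other hpa
    obtain ⟨c, hqc, hca⟩ := exists_other hqa
    have hbc : b ≠ c := fun e => hne (kn_ext hba.symm hpa hpb hqa (e ▸ hqc))
    have h := congrArg (fun σ : Equiv.Perm (Fin n) => σ a) hc.eq
    simp only [sw_of_has hpa hpb hba.symm, sw_of_has hqa hqc hca.symm, Equiv.Perm.mul_apply,
      Equiv.swap_apply_left, Equiv.swap_apply_of_ne_of_ne hba hbc,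
      Equiv.swap_apply_of_ne_of_ne hca (Ne.symm hbc)] at h
    exact hbc h.symm
  · rintro (rfl | hd)
    · exact Commute.refl _
    · obtain ⟨h1, h2, h3, h4⟩ := hd
      refine Equiv.Perm.Disjoint.commute fun a => ?_
      by_cases ha : a = p.1.1 ∨ a = p.1.2
      · right
        rcases ha with rfl | rfl
        · exact Equiv.swap_apply_of_ne_of_ne h1 h2
        · exact Equiv.swap_apply_of_ne_of_ne h3 h4
      · left
        push Not at ha
        exact Equiv.swap_apply_of_ne_of_ne ha.1 ha.2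

/-- conjugating `swap a c` by `swap a b` -/
theorem swap_conj_swap {a b c : Fin n} (hac : a ≠ c) (hbc : b ≠ c) :
    Equiv.swap a b * Equiv.swap a c * Equiv.swap a b = Equiv.swap b c := by
  have h : ∀ σ : Equiv.Perm (Fin n), σ * Equiv.swap a c * σ⁻¹ = Equiv.swap (σ a) (σ c) := fun σ => by
    rw [Equiv.mul_swap_eq_swap_mul, mul_inv_cancel_right]
  have := h (Equiv.swap a b)
  rw [Equiv.swap_inv, Equiv.swap_apply_left, Equiv.swap_apply_of_ne_of_ne hac.symm hbc.symm] at this
  exact this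

/-- two members meeting the same disjoint two, and each other not -/
theorem conj_identity {t s w x : Kn n} (hts : Dis t s) (hwt : ¬ Dis w t) (hws : ¬ Dis w s)
    (hxt : ¬ Dis x t) (hxs : ¬ Dis x s) (hwx : Dis w x) :
    sw s * sw x * sw s = sw t * sw w * sw t := by
  obtain ⟨a, hwa, hta⟩ := exists_common hwt
  obtain ⟨c, hwc, hsc⟩ := exists_common hws
  have hac : a ≠ c := fun e => dis_iff.mp hts a hta (e ▸ hsc)
  obtain ⟨b, hxb, htb⟩ := exists_common hxt
  obtain ⟨d, hxd, hsd⟩ := exists_common hxs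
  have hba : b ≠ a := fun e => dis_iff.mp hwx a hwa (e ▸ hxb)
  have hdc : d ≠ c := fun e => dis_iff.mp hwx c hwc (e ▸ hxd)
  have hbd : b ≠ d := fun e => dis_iff.mp hts b htb (e ▸ hsd)
  have hbc : b ≠ c := fun e => dis_iff.mp hts b htb (e ▸ hsc)
  rw [sw_of_has hsc hsd hdc.symm, sw_of_has hxb hxd hbd, sw_of_has hta htb hba.symm,
    sw_of_has hwa hwc hac, Equiv.swap_comm c d, Equiv.swap_comm b d,
    swap_conj_swap hbd.symm (Ne.symm hbc), swap_conj_swap hac hbc, Equiv.swap_comm c b]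

/-- what commutes with all that commutes with an intersecting pair lies on their triangle -/
theorem triangle_of_common (hn : n = 3 ∨ 5 ≤ n) {d e u : Kn n} (hde : ¬ Dis d e) (hne : d ≠ e)
    (hdu : ¬ Dis d u) (hud : u ≠ d) (h : ∀ v, Dis d v → Dis e v → Dis v u) :
    u = e ∨ sw u = sw d * sw e * sw d := by
  obtain ⟨a, hda, hea⟩ := exists_common hde
  obtain ⟨b, hdb, hba⟩ := exists_other hda
  obtain ⟨c, hec, hca⟩ := exists_other hea
  have hbc : b ≠ c := fun e' => hne (kn_ext hba.symm hda hdb hea (e' ▸ hec))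
  obtain ⟨z, hdz, huz⟩ := exists_common hdu
  obtain ⟨x, hux, hxz⟩ := exists_other huz
  have hza : z = a ∨ z = b := has_unique hda hdb hdz hba.symm
  have hxab : x ≠ a ∧ x ≠ b := by
    constructor <;> rintro rfl <;> rcases hza with rfl | rfl
    · exact hxz rfl
    · exact hud (kn_ext hba huz hux hdz hda)
    · exact hud (kn_ext hba.symm huz hux hdz hdb)
    · exact hxz rfl
  have hxc : x = c := by
    by_contra hxc
    rcases hn with hn3 | hn5
    · have := Finset.card_le_univ ({a, b, c, x} : Finset (Fin n))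
      rw [Finset.card_insert_of_notMem (by simp [hba.symm, hca.symm, hxab.1.symm]),
        Finset.card_insert_of_notMem (by simp [hbc, hxab.2.symm]),
        Finset.card_insert_of_notMem (by simp [Ne.symm hxc]), Finset.card_singleton, Fintype.card_fin] at this
      omega
    · obtain ⟨y, hy⟩ : ∃ y, y ∉ ({a, b, c, x} : Finset (Fin n)) := by
        by_contra hcon
        push Not at hcon
        have := Finset.card_le_card (show (Finset.univ : Finset (Fin n)) ⊆ {a, b, c, x} from fun y _ => hcon y)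
        rw [Finset.card_univ, Fintype.card_fin] at this
        exact absurd (this.trans Finset.card_le_four) (by omega)
      simp only [Finset.mem_insert, Finset.mem_singleton, not_or] at hy
      obtain ⟨v, hvx, hvy⟩ := exists_pair (a := x) (b := y) (Ne.symm hy.2.2.2)
      have hv : ∀ w, Has v w → w = x ∨ w = y := fun w hw => has_unique hvx hvy hw (Ne.symm hy.2.2.2)
      refine dis_iff.mp (h v (dis_iff.mpr fun w hw hvw => ?_) (dis_iff.mpr fun w hw hvw => ?_)) x hvx hux
      · rcases has_unique hda hdb hw hba.symm with rfl | rfl <;> rcases hv _ hvw with e' | e'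
        exacts [hxab.1 e'.symm, hy.1 e'.symm, hxab.2 e'.symm, hy.2.1 e'.symm]
      · rcases has_unique hea hec hw hca.symm with rfl | rfl <;> rcases hv _ hvw with e' | e'
        exacts [hxab.1 e'.symm, hy.1 e'.symm, hxc e'.symm, hy.2.2.1 e'.symm]
  subst hxc
  rcases hza with rfl | rfl
  · exact Or.inl (kn_ext hca.symm huz hux hea hec)
  · right
    rw [sw_of_has huz hux hbc, sw_of_has hda hdb hba.symm, sw_of_has hea hec hca.symm,
      swap_conj_swap hca.symm hbc]

/-- the image of a pair -/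
theorem exists_image (σ : Equiv.Perm (Fin n)) (p : Kn n) :
    ∃ q : Kn n, sw q = σ * sw p * σ⁻¹ ∧ Has q (σ p.1.1) ∧ Has q (σ p.1.2) := by
  obtain ⟨q, h1, h2⟩ := exists_pair (a := σ p.1.1) (b := σ p.1.2) (fun e => p.2.ne (σ.injective e))
  refine ⟨q, ?_, h1, h2⟩
  rw [sw_of_has h1 h2 (fun e => p.2.ne (σ.injective e)), sw, Equiv.mul_swap_eq_swap_mul, mul_inv_cancel_right]

/-- a set shaped like the class of transpositions of the symmetric group -/
structure Coord (T : Set G) (n : ℕ) where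
  φ : Equiv.Perm (Fin n) →* G
  inj : Function.Injective φ
  mem : ∀ p : Kn n, φ (sw p) ∈ T
  surj : ∀ t ∈ T, ∃ p : Kn n, φ (sw p) = t

namespace Coord

variable {T : Set G} (C : Coord T n)

/-- the member at a pair -/
abbrev P (p : Kn n) : G := C.φ (sw p)

theorem P_inj : Function.Injective C.P := C.inj.comp sw_inj

theorem commute_iff {p q : Kn n} : Commute (C.P p) (C.P q) ↔ p = q ∨ Dis p q := by
  rw [← sw_commute]
  exact ⟨fun h => C.inj (by rw [map_mul, map_mul]; exact h.eq), fun h => h.map C.φ⟩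

include C in
theorem ncard [Finite G] : T.ncard = Nat.card (Kn n) := by
  rw [← Nat.card_coe_set_eq]
  exact (Nat.card_eq_of_bijective (fun p : Kn n => (⟨C.P p, C.mem p⟩ : T))
    ⟨fun p q h => C.P_inj (congrArg Subtype.val h), fun t => (C.surj t.1 t.2).imp fun p hp => Subtype.ext hp⟩).symm

/-- counts transported to `T` -/
theorem ncard_filter [Finite G] (P' : Kn n → Prop) (S : G → Prop) (h : ∀ p, S (C.P p) ↔ P' p) :
    {t | t ∈ T ∧ S t}.ncard = {p : Kn n | P' p}.ncard := by
  refine (Set.ncard_congr (t := {t | t ∈ T ∧ S t}) (fun p _ => C.P p) (fun p hp => ⟨C.mem p, (h p).mpr hp⟩)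
    (fun p q _ _ he => C.P_inj he) ?_).symm
  rintro t ⟨ht, hs⟩
  obtain ⟨p, rfl⟩ := C.surj t ht
  exact ⟨p, (h p).mp hs, rfl⟩

theorem range_eq : C.φ.range = Subgroup.closure T := by
  refine le_antisymm ?_ ((Subgroup.closure_le _).mpr fun t ht => ?_)
  · rintro _ ⟨σ, rfl⟩
    induction σ using Equiv.Perm.swap_induction_on' with
    | one => rw [map_one]; exact one_mem _
    | mul_swap f x y hxy ih =>
      rw [map_mul]
      obtain ⟨p, hp⟩ := exists_sw ⟨x, y, hxy, rfl⟩
      exact mul_mem ih (Subgroup.subset_closure (hp ▸ C.mem p))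
  · obtain ⟨p, hp⟩ := C.surj t ht
    exact ⟨sw p, hp⟩

theorem conj_mem {σ : Equiv.Perm (Fin n)} {t : G} (ht : t ∈ T) : C.φ σ * t * (C.φ σ)⁻¹ ∈ T := by
  obtain ⟨p, rfl⟩ := C.surj t ht
  obtain ⟨q, hq, -, -⟩ := exists_image σ p
  rw [← map_inv, ← map_mul, ← map_mul, ← hq]
  exact C.mem q

include C in
theorem trans {t u : G} (ht : t ∈ T) (hu : u ∈ T) : ∃ g ∈ Subgroup.closure T, g * t * g⁻¹ = u := by
  obtain ⟨p, rfl⟩ := C.surj t ht
  obtain ⟨q, rfl⟩ := C.surj u hu
  obtain ⟨σ, hσ⟩ := isConj_iff.mp (Equiv.Perm.isConj_swap p.2.ne q.2.ne)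
  refine ⟨C.φ σ, C.range_eq ▸ ⟨σ, rfl⟩, ?_⟩
  rw [← map_inv, ← map_mul, ← map_mul]
  exact congrArg C.φ hσ

/-- the generated group -/
noncomputable def iso : ↥(Subgroup.closure T) ≃* Equiv.Perm (Fin n) :=
  (MulEquiv.subgroupCongr C.range_eq.symm).trans (MonoidHom.ofInjective C.inj).symm

include C in
theorem eq_one_of_centralizing (hn : 3 ≤ n) {z : G} (hz : z ∈ Subgroup.closure T)
    (hzc : z ∈ Subgroup.centralizer T) : z = 1 := by
  rw [← C.range_eq] at hz
  obtain ⟨σ, rfl⟩ := hz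
  rw [SymChain.eq_one_of_central (k := σ) hn (Subgroup.mem_center_iff.mpr fun τ => C.inj ?_), map_one]
  rw [← Subgroup.centralizer_closure, ← C.range_eq] at hzc
  rw [map_mul, map_mul]
  exact Subgroup.mem_centralizer_iff.mp hzc _ ⟨τ, rfl⟩

/-- renaming the points -/
noncomputable def relabel (π : Equiv.Perm (Fin n)) : Coord T n where
  φ := C.φ.comp (MulAut.conj π).toMonoidHom
  inj := C.inj.comp (MulAut.conj π).injective
  mem p := by
    obtain ⟨q, hq, -, -⟩ := exists_image π p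
    show C.φ (π * sw p * π⁻¹) ∈ T
    rw [← hq]; exact C.mem q
  surj t ht := by
    obtain ⟨q, rfl⟩ := C.surj t ht
    obtain ⟨p, hp, -, -⟩ := exists_image π⁻¹ q
    refine ⟨p, ?_⟩
    show C.φ (π * sw p * π⁻¹) = C.φ (sw q)
    rw [hp, inv_inv, mul_assoc, mul_assoc, mul_inv_cancel, mul_one, mul_inv_cancel_left]

end Coord

/-- a chain spans a symmetric subset -/
theorem exists_coord [Finite G] {D : Set G} (hD : Cfsg.IsThreeTranspositionSet D) {m : ℕ} (hm : 4 ≤ m)
    {T : Set G} {s : ℕ → G} (h : SymChain.Chain D m s) (hs : ∀ i, i < m → s i ∈ T)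
    (hT : ∀ g ∈ Subgroup.closure T, ∀ y ∈ T, g * y * g⁻¹ ∈ T) :
    ∃ (T1 : Set G) (C : Coord T1 (m + 1)), T1 ⊆ T ∧
      ∀ (i : ℕ) (hi : i < m), C.φ (Equiv.swap (⟨i, hi⟩ : Fin m).castSucc (⟨i, hi⟩ : Fin m).succ) = s i := by
  obtain ⟨φ, hφ, hrange⟩ := Spectrum.CoxeterSym.exists_lift (SymChain.symRel hD h)
  let i0 : Fin m := ⟨0, by omega⟩
  let i1 : Fin m := ⟨1, by omega⟩
  have hinj : Function.Injective φ := by
    refine SymChain.injective_of_not_killed (by omega) φ
      (c := Equiv.swap i0.castSucc i0.succ * Equiv.swap i1.castSucc i1.succ) ?_ ?_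
    · rw [Equiv.Perm.mem_alternatingGroup, map_mul,
        Equiv.Perm.sign_swap (Fin.castSucc_lt_succ (i := i0)).ne,
        Equiv.Perm.sign_swap (Fin.castSucc_lt_succ (i := i1)).ne]
      rfl
    · rw [map_mul, hφ, hφ]
      intro he
      refine h.adjacent 0 (by omega) ?_
      have e : s 0 = (s 1)⁻¹ := eq_inv_of_mul_eq_one_left he
      rw [e]
      exact (Commute.refl (s 1)).inv_left
  refine ⟨Set.range fun p : Kn (m + 1) => φ (sw p),
    ⟨φ, hinj, fun p => ⟨p, rfl⟩, fun t ht => ht⟩, ?_, fun i hi => hφ ⟨i, hi⟩⟩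
  rintro _ ⟨p, rfl⟩
  obtain ⟨τ, hτ⟩ := isConj_iff.mp (Equiv.Perm.isConj_swap (Fin.castSucc_lt_succ (i := i0)).ne p.2.ne)
  have hτ' : τ * Equiv.swap i0.castSucc i0.succ * τ⁻¹ = sw p := hτ
  show φ (sw p) ∈ T
  rw [← hτ', map_mul, map_mul, map_inv, hφ]
  refine hT _ ?_ _ (hs 0 (by omega))
  have : φ τ ∈ φ.range := ⟨τ, rfl⟩
  rw [hrange] at this
  exact (Subgroup.closure_le _).mpr (by rintro _ ⟨i, hi, rfl⟩; exact Subgroup.subset_closure (hs i hi)) this

end Cfsg.Agent.Lib.FischerMTypes.Five
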