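import Mathlib
import Cfsg.Agent.Lib.FischerMTypes.Five.SymSet

/-!
Counts in small Kneser graphs, and a symmetric subset closed under commuting is everything.
-/

set_option autoImplicit false
set_option linter.style.haveILetI false
set_option linter.unusedSectionVars false

namespace Cfsg.Agent.Lib.FischerMTypes.Five

open Cfsg.Agent.Lib.FischerMTypes.Basic

variable {G : Type*} [Group G] {n : ℕ}

instance (p q : Kn n) : Decidable (Dis p q) :=
  inferInstanceAs (Decidable (p.1.1 ≠ q.1.1 ∧ p.1.1 ≠ q.1.2 ∧ p.1.2 ≠ q.1.1 ∧ p.1.2 ≠ q.1.2))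

/-- the numbers attached to the symmetric group of degree `n` -/
structure Counts (n c0 c1 c2 c3 : ℕ) : Prop where
  size : Nat.card (Kn n) = c0
  disj : ∀ p : Kn n, {q | Dis p q}.ncard = c1
  meets : ∀ p : Kn n, {q | q ≠ p ∧ ¬ Dis p q}.ncard = c2
  both : ∀ p q : Kn n, q ≠ p → ¬ Dis p q → {r | Dis p r ∧ Dis q r}.ncard = c3

theorem counts_of {n c0 c1 c2 c3 : ℕ} (h0 : Fintype.card (Kn n) = c0)
    (h1 : ∀ p : Kn n, (Finset.univ.filter fun q => Dis p q).card = c1)
    (h2 : ∀ p : Kn n, (Finset.univ.filter fun q => q ≠ p ∧ ¬ Dis p q).card = c2)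
    (h3 : ∀ p : Kn n, ∀ q ∈ (Finset.univ.filter fun q => q ≠ p ∧ ¬ Dis p q),
      (Finset.univ.filter fun r => Dis p r ∧ Dis q r).card = c3) : Counts n c0 c1 c2 c3 := by
  have conv : ∀ (P : Kn n → Prop) [DecidablePred P], {q | P q}.ncard = (Finset.univ.filter P).card :=
    fun P _ => by rw [← Set.ncard_coe_finset, Finset.coe_filter_univ]
  exact ⟨by rw [Nat.card_eq_fintype_card, h0], fun p => by rw [conv]; exact h1 p,
    fun p => by rw [conv]; exact h2 p,
    fun p q hq hd => by rw [conv]; exact h3 p q (Finset.mem_filter.mpr ⟨Finset.mem_univ _, hq, hd⟩)⟩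

theorem counts_three : Counts 3 3 0 2 0 :=
  counts_of (by decide +kernel) (by decide +kernel) (by decide +kernel) (by decide +kernel)

theorem counts_five : Counts 5 10 3 6 1 :=
  counts_of (by decide +kernel) (by decide +kernel) (by decide +kernel) (by decide +kernel)

theorem counts_seven : Counts 7 21 10 10 6 :=
  counts_of (by decide +kernel) (by decide +kernel) (by decide +kernel) (by decide +kernel)

theorem counts_nine : Counts 9 36 21 14 15 :=
  counts_of (by decide +kernel) (by decide +kernel) (by decide +kernel) (by decide +kernel)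

/-- members of a set indexed by pairs, with commuting and conjugation as in the symmetric group -/
structure Pts (S : Set G) (n : ℕ) where
  P : Kn n → G
  inj : Function.Injective P
  mem : ∀ p, P p ∈ S
  surj : ∀ t ∈ S, ∃ p, P p = t
  comm : ∀ p q, Commute (P p) (P q) ↔ p = q ∨ Dis p q
  conj : ∀ p q r, sw r = sw p * sw q * sw p → P r = P p * P q * P p

theorem Pts.ncard_sub {S : Set G} (Q : Pts S n) (P' : Kn n → Prop) (W : Set G)
    (hW : ∀ t, t ∈ W → t ∈ S) (h : ∀ p, Q.P p ∈ W ↔ P' p) : W.ncard = {p : Kn n | P' p}.ncard := by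
  refine (Set.ncard_congr (t := W) (fun p _ => Q.P p) (fun p hp => (h p).mpr hp)
    (fun p q _ _ he => Q.inj he) ?_).symm
  intro t ht
  obtain ⟨p, rfl⟩ := Q.surj t (hW t ht)
  exact ⟨p, (h p).mp ht, rfl⟩

/-- the indexing of a symmetric set -/
def Coord.pts {T : Set G} (C : Coord T n) : Pts T n where
  P := C.P
  inj := C.P_inj
  mem := C.mem
  surj := C.surj
  comm _ _ := C.commute_iff
  conj p q r h := by
    show C.φ (sw r) = C.φ (sw p) * C.φ (sw q) * C.φ (sw p)
    rw [h, map_mul, map_mul]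

/-- no two commuting members outside avoid a symmetric subset closed under commuting -/
theorem no_outside {D : Set G} (hD : Cfsg.IsThreeTranspositionSet D) {T T1 : Set G} (hTD : T ⊆ D)
    (hT : ∀ u ∈ T, ∀ t ∈ T, u * t * u ∈ T) (h1T : T1 ⊆ T) (hn : 4 ≤ n) (C : Coord T1 n)
    (hperp : ∀ t ∈ T1, ∀ u ∈ T, Commute t u → u ∈ T1) {e e' : G} (he : e ∈ T) (he' : e' ∈ T)
    (hne : e ≠ e') (hee : Commute e e') (h : ∀ t ∈ T1, ¬ Commute e t) (h' : ∀ t ∈ T1, ¬ Commute e' t) :
    False := by
  set g := e * e'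
  have hee' : e * e' = e' * e := hee.eq
  have hmul : ∀ {u : G}, u ∈ T → u * u = 1 := fun hu => mul_self hD (hTD hu)
  have hg2 : g * g = 1 := by
    show e * e' * (e * e') = 1
    rw [hee.symm.mul_mul_mul_comm, hmul he, hmul he', one_mul]
  have hginv : g⁻¹ = g := inv_eq_of_mul_eq_one_right hg2
  have hform : ∀ t, g * t * g = e' * (e * t * e) * e' := fun t => by
    calc g * t * g = e * e' * t * (e * e') := rfl
      _ = e' * e * t * (e * e') := by rw [hee']
      _ = e' * (e * t * e) * e' := by group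
  have hstep : ∀ t ∈ T1, g * t * g ∈ T1 ∧ Commute t (g * t * g) ∧ g * t * g ≠ t := by
    intro t ht
    have htT := h1T ht
    have b1 : e * t * e = t * e * t := braid hD (hTD he) (hTD htT) (h t ht)
    have b2 : e' * t * e' = t * e' * t := braid hD (hTD he') (hTD htT) (h' t ht)
    have hc : Commute (e * t * e) (e' * t * e') := by
      rw [b1, b2]
      exact (conj_comm_iff hD (hTD htT)).mpr hee
    have hc' : Commute t (g * t * g) := by
      have hself : t = e' * (e' * t * e') * e' := (conj_self_inv hD (hTD he') t).symm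
      rw [hform]
      conv => arg 1; rw [hself]
      exact ((conj_comm_iff hD (hTD he')).mpr hc).symm
    have hmem : g * t * g ∈ T := by
      rw [hform]; exact hT e' he' _ (hT e he t htT)
    refine ⟨hperp t ht _ hmem hc', hc', fun heq => hne ?_⟩
    have e1 : e * t * e = e' * t * e' := by
      conv_rhs => rw [← heq, hform, conj_self_inv hD (hTD he')]
    rw [b1, b2] at e1
    exact mul_left_cancel (mul_right_cancel e1)
  obtain ⟨p0, p1, hp01⟩ : ∃ p q : Kn n, p ≠ q :=
    ⟨⟨(⟨0, by omega⟩, ⟨1, by omega⟩), by simp⟩, ⟨(⟨0, by omega⟩, ⟨2, by omega⟩), by simp⟩, by simp⟩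
  obtain ⟨ht1, htc, htne⟩ := hstep _ (C.mem p0)
  obtain ⟨q0, hq0⟩ := C.surj _ ht1
  have hdis : Dis p0 q0 := by
    have := (C.commute_iff (p := p0) (q := q0)).mp (by show Commute (C.φ (sw p0)) (C.φ (sw q0)); rw [hq0]; exact htc)
    exact this.resolve_left fun e' => htne (by rw [← hq0, e'])
  obtain ⟨w, hw1, hw2⟩ := exists_pair (a := p0.1.1) (b := q0.1.1) hdis.1
  have hwp : ¬ Dis w p0 := fun hd => dis_iff.mp hd _ hw1 (Or.inl rfl)
  have hwq : ¬ Dis w q0 := fun hd => dis_iff.mp hd _ hw2 (Or.inl rfl)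
  obtain ⟨hx1, hxc, hxne⟩ := hstep _ (C.mem w)
  obtain ⟨x, hx⟩ := C.surj _ hx1
  have hgg : ∀ u, g * (g * u * g) * g = u := fun u => by
    calc g * (g * u * g) * g = (g * g) * u * (g * g) := by group
      _ = u := by rw [hg2, one_mul, mul_one]
  have hgcomm : ∀ {u v : G}, Commute (g * u * g) (g * v * g) ↔ Commute u v := fun {u v} => by
    have h' := commute_conj_iff g u v
    simpa [MulAut.conj_apply, hginv] using h'
  have hwx : Dis w x := by
    have := (C.commute_iff (p := w) (q := x)).mp (by show Commute (C.φ (sw w)) (C.φ (sw x)); rw [hx]; exact hxc)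
    exact this.resolve_left fun e'' => hxne (by rw [← hx, e''])
  have hwp' : ¬ Commute (C.P w) (C.P p0) := fun hc => by
    rcases C.commute_iff.mp hc with e'' | hd
    · exact dis_iff.mp hdis q0.1.1 (e'' ▸ hw2) (Or.inl rfl)
    · exact hwp hd
  have hwq' : ¬ Commute (C.P w) (C.P q0) := fun hc => by
    rcases C.commute_iff.mp hc with e'' | hd
    · exact dis_iff.mp hdis p0.1.1 (Or.inl rfl) (e'' ▸ hw1)
    · exact hwq hd
  have hq0' : g * C.P q0 * g = C.P p0 := by
    show g * C.φ (sw q0) * g = _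
    rw [hq0]; exact hgg _
  have hxp : ¬ Dis x p0 := fun hd => hwq' (by
    rw [← hgcomm, hq0']
    show Commute (g * C.φ (sw w) * g) _
    rw [← hx]
    exact C.commute_iff.mpr (Or.inr hd))
  have hxq : ¬ Dis x q0 := fun hd => hwp' (by
    rw [← hgcomm]
    show Commute (g * C.φ (sw w) * g) (g * C.φ (sw p0) * g)
    rw [← hx, ← hq0]
    exact C.commute_iff.mpr (Or.inr hd))
  have hid := congrArg C.φ (conj_identity hdis hwp hwq hxp hxq hwx)
  simp only [map_mul] at hid
  set u := C.φ (sw p0) * C.φ (sw w) * C.φ (sw p0)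
  have hu1 : u ∈ T1 := by
    have := C.conj_mem (σ := sw p0) (C.mem w)
    rwa [← map_inv, sw, Equiv.swap_inv] at this
  refine (hstep u hu1).2.2 ?_
  calc g * u * g = g * C.φ (sw p0) * (g * g) * C.φ (sw w) * (g * g) * C.φ (sw p0) * g := by
        rw [hg2]; simp [u, mul_assoc]
    _ = (g * C.φ (sw p0) * g) * (g * C.φ (sw w) * g) * (g * C.φ (sw p0) * g) := by group
    _ = C.φ (sw q0) * C.φ (sw x) * C.φ (sw q0) := by rw [hq0, hx]
    _ = u := hid

end Cfsg.Agent.Lib.FischerMTypes.Five
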