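import Mathlib
import Cfsg.Agent.Lib.FischerMTypes.Prime.Down
import Cfsg.Agent.Lib.FischerMTypes.Five.Component

/-!
Subgroups of order 5 one level up: the fixed transpositions form the class of transpositions of a
symmetric group of degree two more, and the normaliser.
-/

set_option autoImplicit false
set_option linter.style.haveILetI false
set_option linter.unusedSectionVars false

namespace Cfsg.Agent.Lib.FischerMTypes.Five

open Cfsg.Agent.Lib.FischerMTypes.Basic Cfsg.Agent.Lib.FischerMTypes.Primitive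
open Cfsg.Agent.Lib.FischerMTypes.Eleven (fixed Down mem_cent_perp mem_cent_self card_eq_orbit_mul
  normalizer_conj_fixed)
open Cfsg.Agent.Lib.FischerMTypes.PrimeOnce

variable {G : Type*} [Group G] [Finite G] {D : Set G} {Q : Type*} [Group Q] [Finite Q] {E : Set Q}

instance fact5 : Fact (Nat.Prime 5) := ⟨by norm_num⟩

theorem odd5 : Odd 5 := by decide

/-- the answer at a subgroup of order 5 -/
structure Res (D : Set G) (X : Subgroup G) (n : ℕ) : Prop where
  coord : Nonempty (Coord (fixed D X) n)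
  cen : Nat.card
    (Subgroup.centralizer (X : Set G) ⊓ Subgroup.centralizer (fixed D X) : Subgroup G) = 5
  frob : Nat.card
    (Subgroup.normalizer (X : Set G) ⊓ Subgroup.centralizer (fixed D X) : Subgroup G) = 20
  nor : Nat.card (Subgroup.normalizer (X : Set G)) = 20 * n.factorial

/-- the fixed neighbours of a fixed transposition -/
abbrev Nbr (D : Set G) (X : Subgroup G) (y : G) : Set G :=
  {u | u ∈ fixed D X ∧ u ≠ y ∧ Commute y u}

/-- the fixed members not commuting with `y` -/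
abbrev Far (D : Set G) (X : Subgroup G) (y : G) : Set G := {u | u ∈ fixed D X ∧ ¬ Commute y u}

variable (hD : Cfsg.IsThreeTranspositionGroup D)

include hD in
theorem conj_fixed {X : Subgroup G} {g u : G} (hg : g ∈ Subgroup.closure (fixed D X)) (hu : u ∈ fixed D X) :
    g * u * g⁻¹ ∈ fixed D X :=
  normalizer_conj_fixed hD.2.1 ((Subgroup.closure_le _).mpr (fun _ hz =>
    Subgroup.centralizer_le_normalizer (X : Set G) hz.2) hg) hu

include hD in
theorem conj_fixed' {X : Subgroup G} {v u : G} (hv : v ∈ fixed D X) (hu : u ∈ fixed D X) :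
    v * u * v ∈ fixed D X := by
  have h := conj_fixed hD (Subgroup.subset_closure hv) hu
  rwa [inv_eq hD.1 hv.1] at h

theorem le_cent_of_mem {X : Subgroup G} {y : G} (hy : y ∈ Subgroup.centralizer (X : Set G)) :
    X ≤ Subgroup.centralizer ({y} : Set G) := fun u hu =>
  Subgroup.mem_centralizer_singleton_iff.mpr (Subgroup.mem_centralizer_iff.mp hy u hu)

variable (hM : ∀ b ∈ D, Nonempty (Down D b E)) {n : ℕ}
  (hQ : ∀ Y : Subgroup Q, Nat.card Y = 5 → Res E Y n) {X : Subgroup G} (hX : Nat.card X = 5)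

include hD hM hQ hX in
/-- the neighbours of a fixed transposition are indexed by pairs -/
theorem exists_pts {y : G} (hy : y ∈ fixed D X) : Nonempty (Pts (Nbr D X y) n) := by
  obtain ⟨M⟩ := hM y hy.1
  have hXy := le_cent_of_mem hy.2
  obtain ⟨C⟩ := (hQ _ (card_img M odd5 hX hXy)).coord
  have hiff : ∀ u (hu : u ∈ perp D y), u ∈ Subgroup.centralizer (X : Set G) ↔
      M.π ⟨u, mem_cent_perp hu⟩ ∈ fixed E (img M X) := fun u hu =>
    ⟨fun h => ⟨M.mem u hu, (mem_cen_iff M odd5 hX hXy ⟨u, mem_cent_perp hu⟩).mp h⟩,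
      fun h => (mem_cen_iff M odd5 hX hXy ⟨u, mem_cent_perp hu⟩).mpr h.2⟩
  have hex : ∀ p : Kn n, ∃ u, ∃ hu : u ∈ perp D y, M.π ⟨u, mem_cent_perp hu⟩ = C.P p :=
    fun p => M.ex _ (C.mem p).1
  choose P hP hπ using hex
  have hmem : ∀ p, P p ∈ Nbr D X y := fun p =>
    ⟨⟨(hP p).1, (hiff _ (hP p)).mpr (hπ p ▸ C.mem p)⟩, (hP p).2.1, (hP p).2.2⟩
  refine ⟨{ P := P, inj := ?_, mem := hmem, surj := ?_, comm := ?_, conj := ?_ }⟩
  · intro p q h
    refine C.P_inj ?_
    rw [← hπ p, ← hπ q]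
    exact congrArg M.π (Subtype.ext h)
  · intro t ht
    have ht' : t ∈ perp D y := ⟨ht.1.1, ht.2.1, ht.2.2⟩
    obtain ⟨p, hp⟩ := C.surj _ ((hiff t ht').mp ht.1.2)
    exact ⟨p, M.inj _ (hP p) t ht' (by rw [hπ p]; exact hp)⟩
  · intro p q
    have h := M.commute_iff hD.2.1 ⟨P p, mem_cent_perp (hP p)⟩ (hP q)
    rw [hπ p, hπ q] at h
    rw [← C.commute_iff]
    exact h
  · intro p q r h
    have hc : P p * P q * P p ∈ perp D y := (perp_closed hD y).2 _ (hP p) _ (hP q)
    refine M.inj _ (hP r) _ hc ?_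
    rw [show (⟨P p * P q * P p, mem_cent_perp hc⟩ : Subgroup.centralizer ({y} : Set G)) =
        ⟨P p, mem_cent_perp (hP p)⟩ * ⟨P q, mem_cent_perp (hP q)⟩ * ⟨P p, mem_cent_perp (hP p)⟩ from rfl,
      map_mul, map_mul, hπ, hπ, hπ]
    show C.φ (sw r) = C.φ (sw p) * C.φ (sw q) * C.φ (sw p)
    rw [h, map_mul, map_mul]

variable {c0 c1 c2 c3 : ℕ} (Cn : Counts n c0 c1 c2 c3)

include hD hM hQ hX Cn in
/-- the far neighbours of a neighbour -/
theorem ncard_far_nbr {d b : G} (hd : d ∈ fixed D X) (hb : b ∈ Nbr D X d) :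
    {u | u ∈ Far D X d ∧ Commute b u}.ncard = c2 := by
  obtain ⟨Pb⟩ := exists_pts hD hM hQ hX hb.1
  obtain ⟨p, hp⟩ := Pb.surj d ⟨hd, Ne.symm hb.2.1, hb.2.2.symm⟩
  rw [← Cn.meets p]
  refine Pb.ncard_sub (fun q => q ≠ p ∧ ¬ Dis p q) _
    (fun u hu => ⟨hu.1.1, fun e => hu.1.2 (e ▸ hb.2.2), hu.2⟩) fun q => ?_
  constructor
  · rintro ⟨⟨-, hfar⟩, -⟩
    rw [← hp] at hfar
    exact ⟨fun e => hfar (e ▸ Commute.refl _), fun hd' => hfar ((Pb.comm p q).mpr (Or.inr hd'))⟩
  · rintro ⟨hne, hnd⟩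
    refine ⟨⟨(Pb.mem q).1, fun hc => ?_⟩, (Pb.mem q).2.2⟩
    rw [← hp] at hc
    exact ((Pb.comm p q).mp hc).elim (fun e => hne e.symm) hnd

include hD hM hQ hX Cn in
/-- the common neighbours of a meeting pair at a common neighbour -/
theorem ncard_common {d b e : G} (hd : d ∈ fixed D X) (hb : b ∈ Nbr D X d) (he : e ∈ Far D X d)
    (hbe : Commute b e) :
    {u | u ∈ Nbr D X b ∧ (Commute d u ∧ Commute e u)}.ncard = c3 := by
  obtain ⟨Pb⟩ := exists_pts hD hM hQ hX hb.1
  obtain ⟨p, hp⟩ := Pb.surj d ⟨hd, Ne.symm hb.2.1, hb.2.2.symm⟩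
  obtain ⟨q, hq⟩ := Pb.surj e ⟨he.1, fun e' => he.2 (e' ▸ hb.2.2), hbe⟩
  have hne : q ≠ p := fun e' => he.2 (by rw [← hp, ← hq, e'])
  have hnd : ¬ Dis p q := fun h => he.2 (by rw [← hp, ← hq]; exact (Pb.comm p q).mpr (Or.inr h))
  rw [← Cn.both p q hne hnd]
  refine Pb.ncard_sub (fun r => Dis p r ∧ Dis q r) _ (fun u hu => hu.1) fun r => ?_
  constructor
  · rintro ⟨-, h1, h2⟩
    rw [← hp] at h1
    rw [← hq] at h2
    constructor
    · refine ((Pb.comm p r).mp h1).resolve_left fun e' => he.2 ?_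
      rw [← hp, e', ← hq]
      exact h2.symm
    · refine ((Pb.comm q r).mp h2).resolve_left fun e' => he.2 ?_
      rw [← hq, e', ← hp]
      exact h1
  · rintro ⟨h1, h2⟩
    exact ⟨Pb.mem r, hp ▸ (Pb.comm p r).mpr (Or.inr h1), hq ▸ (Pb.comm q r).mpr (Or.inr h2)⟩

variable {m0 m1 m2 m3 : ℕ} (Cm : Counts (n + 2) m0 m1 m2 m3)
  (hn : n = 3 ∨ 5 ≤ n) (hn7 : n ≤ 7) (hm1 : m1 = c0) (hc0 : 0 < c0) (hc2 : 0 < c2) {tot : ℕ}
  (hcheck : ((reps n).all (check n c3 tot)) = true)

include hD hM hQ hX Cn Cm hn hn7 hm1 hc0 hc2 hcheck in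
/-- one step up -/
theorem res_step {d : G} (hd : d ∈ fixed D X)
    (htot : tot ≠ 0 → ∀ e ∈ Far D X d, (∃ b ∈ Nbr D X d, Commute b e) →
      {b | b ∈ Nbr D X d ∧ Commute b e}.ncard = tot) : Res D X (n + 2) := by
  classical
  have h3 : 3 ≤ n := by omega
  obtain ⟨Pd⟩ := exists_pts hD hM hQ hX hd
  obtain ⟨p0⟩ : Nonempty (Kn n) := by
    by_contra hcon
    rw [not_nonempty_iff] at hcon
    have := Cn.size
    rw [Nat.card_of_isEmpty] at this
    omega
  have hnb : ∀ p, Pd.P p ∈ Nbr D X d := Pd.mem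
  obtain ⟨e, he, hbe⟩ := Set.nonempty_of_ncard_ne_zero
    (by rw [ncard_far_nbr hD hM hQ hX Cn hd (hnb p0)]; omega :
      {u | u ∈ Far D X d ∧ Commute (Pd.P p0) u}.ncard ≠ 0)
  -- the neighbours of `d` commuting with `e`
  let R : Fin n → Fin n → Prop := fun a b => a = b ∨ ∃ p : Kn n, Has p a ∧ Has p b ∧ Commute (Pd.P p) e
  have hRp : ∀ p : Kn n, R p.1.1 p.1.2 ↔ Commute (Pd.P p) e := by
    intro p
    constructor
    · rintro (h | ⟨q, h1, h2, hc⟩)
      · exact absurd h p.2.ne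
      · rwa [kn_ext p.2.ne (Or.inl rfl) (Or.inr rfl) h1 h2]
    · exact fun h => Or.inr ⟨p, Or.inl rfl, Or.inr rfl, h⟩
  have hR : Equivalence R := by
    refine ⟨fun a => Or.inl rfl, fun {a b} h => h.elim (fun e' => Or.inl e'.symm)
      (fun ⟨p, h1, h2, h3⟩ => Or.inr ⟨p, h2, h1, h3⟩), fun {a b c} hab hbc => ?_⟩
    rcases hab with rfl | ⟨p, hpa, hpb, hpc⟩
    · exact hbc
    rcases hbc with rfl | ⟨q, hqb, hqc, hqe⟩
    · exact Or.inr ⟨p, hpa, hpb, hpc⟩
    by_cases hac : a = c
    · exact Or.inl hac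
    by_cases hab' : a = b
    · exact Or.inr ⟨q, hab' ▸ hqb, hqc, hqe⟩
    by_cases hbc' : b = c
    · exact Or.inr ⟨p, hpa, hbc' ▸ hpb, hpc⟩
    obtain ⟨r, hra, hrc⟩ := exists_pair hac
    refine Or.inr ⟨r, hra, hrc, ?_⟩
    have hswid : sw r = sw p * sw q * sw p := by
      rw [sw_of_has hra hrc hac, sw_of_has hpa hpb hab', sw_of_has hqb hqc hbc', Equiv.swap_comm a b,
        swap_conj_swap hbc' hac]
    rw [Pd.conj p q r hswid]
    exact (hpc.mul_left hqe).mul_left hpc
  have hdeg : ∀ p : Kn n, R p.1.1 p.1.2 → {q : Kn n | R q.1.1 q.1.2 ∧ Dis p q}.ncard = c3 := by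
    intro p hp
    rw [hRp] at hp
    rw [← ncard_common hD hM hQ hX Cn hd (hnb p) he hp]
    refine (Pd.ncard_sub (fun q => R q.1.1 q.1.2 ∧ Dis p q) _ ?_ fun q => ?_).symm
    · rintro u ⟨⟨hu, -, -⟩, hdu, heu⟩
      exact ⟨hu, fun e' => he.2 (e' ▸ heu.symm), hdu⟩
    · rw [hRp]
      constructor
      · rintro ⟨⟨-, hne, hc⟩, -, hec⟩
        exact ⟨hec.symm, ((Pd.comm p q).mp hc).resolve_left fun e' => hne (by rw [e'])⟩
      · rintro ⟨hqe, hdis⟩
        refine ⟨⟨(Pd.mem q).1, fun e' => ?_, (Pd.comm p q).mpr (Or.inr hdis)⟩, (Pd.mem q).2.2, hqe.symm⟩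
        exact dis_iff.mp hdis _ (Or.inl rfl) (Pd.inj e' ▸ Or.inl rfl)
  obtain ⟨z, hz⟩ := exists_point hn7 hcheck R hR ⟨p0, (hRp p0).mpr hbe⟩ hdeg fun ht => by
    rw [← htot ht e he ⟨_, hnb p0, hbe⟩]
    exact (Pd.ncard_sub (fun q => R q.1.1 q.1.2) {b | b ∈ Nbr D X d ∧ Commute b e} (fun u hu => hu.1)
      fun q => ⟨fun h => (hRp q).mpr h.2, fun h => ⟨Pd.mem q, (hRp q).mp h⟩⟩).symm
  -- the path through the points ending at `z`
  let pt : ℕ → Fin n := fun i => if h : i < n then Equiv.swap (⟨n - 1, by omega⟩ : Fin n) z ⟨i, h⟩ else z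
  have hpt : ∀ i j, i < n → j < n → pt i = pt j → i = j := by
    intro i j hi hj h
    simp only [pt, dif_pos hi, dif_pos hj] at h
    exact congrArg Fin.val ((Equiv.swap _ _).injective h)
  have hptz : pt (n - 1) = z := by simp [pt, show n - 1 < n by omega]
  have hedge : ∀ i, ∃ q : Kn n, i + 1 < n → Has q (pt i) ∧ Has q (pt (i + 1)) := fun i => by
    by_cases h : i + 1 < n
    · obtain ⟨q, hq⟩ := exists_pair (a := pt i) (b := pt (i + 1))
        (fun e' => by have := hpt i (i + 1) (by omega) h e'; omega)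
      exact ⟨q, fun _ => hq⟩
    · exact ⟨p0, fun h' => absurd h' h⟩
  choose q hq using hedge
  have hends : ∀ i a, i + 1 < n → Has (q i) a → a = pt i ∨ a = pt (i + 1) := fun i a hi ha =>
    has_unique (hq i hi).1 (hq i hi).2 ha (fun e' => by have := hpt i (i + 1) (by omega) hi e'; omega)
  have hqdis : ∀ i j, i + 1 < n → j + 1 < n → (i + 2 ≤ j ∨ j + 2 ≤ i) → Dis (q i) (q j) := by
    intro i j hi hj hij
    rw [dis_iff]
    intro a ha hb
    rcases hends i a hi ha with rfl | rfl <;> rcases hends j _ hj hb with h | h <;>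
      (have := hpt _ _ (by omega) (by omega) h; omega)
  have hqadj : ∀ i, i + 2 < n → ¬ Commute (Pd.P (q i)) (Pd.P (q (i + 1))) := by
    intro i hi hc
    rcases (Pd.comm _ _).mp hc with e' | hd'
    · rcases hends (i + 1) (pt i) (by omega) (e' ▸ (hq i (by omega)).1) with h | h <;>
        (have := hpt _ _ (by omega) (by omega) h; omega)
    · exact dis_iff.mp hd' _ (hq i (by omega)).2 (hq (i + 1) (by omega)).1
  have hqB : ∀ i, i + 2 < n → Commute (Pd.P (q i)) e := by
    intro i hi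
    rw [← hRp, hz]
    constructor <;> intro e' <;>
      [have h := hends i z (by omega) (Or.inl e'); have h := hends i z (by omega) (Or.inr e')] <;>
      (rw [← hptz] at h; rcases h with h | h <;> (have := hpt _ _ (by omega) (by omega) h; omega))
  have hqlast : ¬ Commute (Pd.P (q (n - 2))) e := by
    rw [← hRp, hz]
    rintro ⟨h1, h2⟩
    have h := (hq (n - 2) (by omega)).2
    rw [show n - 2 + 1 = n - 1 by omega, hptz] at h
    exact h.elim h1 h2
  -- the chain
  let s : ℕ → G := fun i => if i = 0 then d else if i = 1 then e else Pd.P (q (n - i))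
  have hs : ∀ i, i < n + 1 → s i ∈ fixed D X := by
    intro i _
    simp only [s]
    split_ifs
    exacts [hd, he.1, (Pd.mem _).1]
  have hchain : SymChain.Chain D (n + 1) s := by
    refine ⟨fun i hi => (hs i hi).1, fun i hi => ?_, fun i j hij hj => ?_⟩
    · simp only [s]
      rcases i with _ | _ | i
      · simpa using he.2
      · simp only [show (1 : ℕ) ≠ 0 from one_ne_zero, if_false, if_true, show (2 : ℕ) ≠ 0 by norm_num,
          show (2 : ℕ) ≠ 1 by norm_num]
        exact fun hc => hqlast hc.symm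
      · simp only [show i + 2 ≠ 0 by omega, show i + 2 ≠ 1 by omega, show i + 2 + 1 ≠ 0 by omega,
          show i + 2 + 1 ≠ 1 by omega, if_false]
        intro hc
        refine hqadj (n - (i + 2 + 1)) (by omega) ?_
        rw [show n - (i + 2 + 1) + 1 = n - (i + 2) by omega]
        exact hc.symm
    · simp only [s]
      rcases i with _ | _ | i
      · simp only [if_true, show j ≠ 0 by omega, show j ≠ 1 by omega, if_false]
        exact (Pd.mem _).2.2
      · simp only [show (1 : ℕ) ≠ 0 from one_ne_zero, if_false, if_true, show j ≠ 0 by omega,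
          show j ≠ 1 by omega]
        exact (hqB (n - j) (by omega)).symm
      · simp only [show i + 2 ≠ 0 by omega, show i + 2 ≠ 1 by omega, show j ≠ 0 by omega,
          show j ≠ 1 by omega, if_false]
        exact (Pd.comm _ _).mpr (Or.inr (hqdis _ _ (by omega) (by omega) (by omega)))
  set T := fixed D X
  have hTconj : ∀ g ∈ Subgroup.closure T, ∀ y ∈ T, g * y * g⁻¹ ∈ T := fun g hg y hy => conj_fixed hD hg hy
  obtain ⟨T1, C, h1T, hCs⟩ := exists_coord hD.1 (m := n + 1) (by omega) hchain hs hTconj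
  have hperp : ∀ t ∈ T1, ∀ u ∈ T, Commute t u → u ∈ T1 := by
    intro t ht u hu hc
    by_cases hut : u = t
    · exact hut ▸ ht
    obtain ⟨Pt⟩ := exists_pts hD hM hQ hX (h1T ht)
    have hN : (Nbr D X t).ncard = c0 := by
      rw [← Cn.size, ← Set.ncard_univ]
      exact Pt.ncard_sub (fun _ => True) _ (fun u hu => hu) (fun p => ⟨fun _ => trivial, fun _ => Pt.mem p⟩)
    obtain ⟨p, hp⟩ := C.surj t ht
    have hsub : {w | w ∈ T1 ∧ (w ≠ t ∧ Commute t w)} ⊆ Nbr D X t := fun w hw => ⟨h1T hw.1, hw.2⟩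
    have hcard : {w | w ∈ T1 ∧ (w ≠ t ∧ Commute t w)}.ncard = c0 := by
      rw [C.ncard_filter (fun r => Dis p r) (fun w => w ≠ t ∧ Commute t w), Cm.disj p, hm1]
      intro r
      rw [← hp]
      constructor
      · rintro ⟨hne, hc'⟩
        exact (C.commute_iff.mp hc').resolve_left fun e' => hne (by rw [e'])
      · intro hdis
        exact ⟨fun e' => dis_iff.mp hdis _ (Or.inl rfl) (C.P_inj e' ▸ Or.inl rfl),
          C.commute_iff.mpr (Or.inr hdis)⟩
    have := Set.eq_of_subset_of_ncard_le hsub (by rw [hN, hcard]) (Set.toFinite _)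
    exact (this.ge ⟨hu, hut, hc⟩).1
  have hTT : T1 = T := by
    refine Set.Subset.antisymm h1T fun u hu => ?_
    by_contra hu1
    have hun : ∀ t ∈ T1, ¬ Commute u t := fun t ht hc => hu1 (hperp t ht u hu hc.symm)
    obtain ⟨Pu⟩ := exists_pts hD hM hQ hX hu
    have hu' := Pu.mem p0
    have hu'n : Pu.P p0 ∉ T1 := fun h => hu1 (hperp _ h u hu hu'.2.2.symm)
    exact no_outside hD.1 (fun x hx => hx.1) (fun v hv w hw => conj_fixed' hD hv hw) h1T (by omega) C hperp hu
      hu'.1 (Ne.symm hu'.2.1) hu'.2.2 hun fun t ht hc => hu'n (hperp t ht _ hu'.1 hc.symm)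
  have C' : Coord T (n + 1 + 1) := hTT ▸ C
  have hCcoord : Nonempty (Coord T (n + 2)) := ⟨C'⟩
  obtain ⟨Cc⟩ := hCcoord
  have hT1card : T.ncard = m0 := by rw [Cc.ncard, Cm.size]
  -- the normaliser
  obtain ⟨M⟩ := hM d hd.1
  have hXd := le_cent_of_mem hd.2
  have hY := card_img M odd5 hX hXd
  have R' := hQ _ hY
  set H := Subgroup.centralizer ({d} : Set G)
  have hNd : Nat.card (Subgroup.normalizer (X : Set G) ⊓ H : Subgroup G) = 2 * (20 * n.factorial) := by
    rw [card_normalizer_inf M odd5 hX hXd, R'.nor]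
  have hm0 : m0 * 2 = (n + 2) * (n + 1) := by
    have h := Cm.size
    have h' : n = 3 ∨ n = 4 ∨ n = 5 ∨ n = 6 ∨ n = 7 := by omega
    rcases h' with rfl | rfl | rfl | rfl | rfl <;>
      (rw [Nat.card_eq_fintype_card] at h; rw [← h]; decide +kernel)
  have hN : Nat.card (Subgroup.normalizer (X : Set G)) = 20 * (n + 2).factorial := by
    rw [card_eq_orbit_mul (H := Subgroup.normalizer (X : Set G)) (O := T) (x := d)
      (fun g hg => normalizer_conj_fixed hD.2.1 hg hd) (fun y hy => ?_), hT1card, hNd,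
      Nat.factorial_succ, Nat.factorial_succ]
    · rw [show m0 * (2 * (20 * n.factorial)) = m0 * 2 * (20 * n.factorial) by ring, hm0]
      ring
    · obtain ⟨g, hg, hgy⟩ := Cc.trans hd hy
      exact ⟨g, (Subgroup.closure_le _).mpr (fun z hz =>
        Subgroup.centralizer_le_normalizer (X : Set G) hz.2) hg, hgy⟩
  set K := Subgroup.normalizer (X : Set G) ⊓ (H ⊓ Subgroup.centralizer (Nbr D X d)) with hKdef
  have hPiff : ∀ h : H, (h : G) ∈ Subgroup.centralizer (Nbr D X d) ↔
      M.π h ∈ Subgroup.centralizer (fixed E (img M X)) := by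
    intro h
    simp only [Subgroup.mem_centralizer_iff]
    constructor
    · intro hh w hw
      obtain ⟨u, hu, rfl⟩ := M.ex w hw.1
      exact ((M.commute_iff hD.2.1 h hu).mp (hh u ⟨⟨hu.1,
        (mem_cen_iff M odd5 hX hXd ⟨u, mem_cent_perp hu⟩).mpr hw.2⟩, hu.2.1, hu.2.2⟩).symm).eq.symm
    · intro hh u hu
      have hu' : u ∈ perp D d := ⟨hu.1.1, hu.2.1, hu.2.2⟩
      exact ((M.commute_iff hD.2.1 h hu').mpr (hh _ ⟨M.mem u hu',
        (mem_cen_iff M odd5 hX hXd ⟨u, mem_cent_perp hu'⟩).mp hu.1.2⟩).symm).eq.symm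
  have hK : Nat.card K = 40 := by
    rw [card_preimage M (B := Subgroup.normalizer (img M X : Set Q) ⊓ Subgroup.centralizer (fixed E (img M X)))
      (inf_le_right.trans inf_le_left) fun h => ?_, R'.frob]
    simp only [Subgroup.mem_inf, mem_nor_iff M odd5 hX hXd h, hPiff h]
    exact ⟨fun h' => ⟨h'.1, h'.2.2⟩, fun h' => ⟨h'.1, h.2, h'.2⟩⟩
  have hfix : ∀ g : G, g * d = d * g → (∀ u ∈ Nbr D X d, u * g = g * u) → g * e = e * g →
      g ∈ Subgroup.centralizer T := by
    intro g h1 h2 h3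
    have hall : ∀ σ : Equiv.Perm (Fin (n + 2)), Commute g (C.φ σ) := by
      intro σ
      have hσ : σ ∈ Subgroup.closure (Set.range fun i : Fin (n + 1) => Equiv.swap i.castSucc i.succ) := by
        rw [SymChain.closure_swaps]; trivial
      induction hσ using Subgroup.closure_induction with
      | mem τ hτ =>
        obtain ⟨i, rfl⟩ := hτ
        rw [show C.φ (Equiv.swap i.castSucc i.succ) = s i from hCs i i.isLt]
        simp only [s]
        split_ifs
        exacts [h1, h3, (h2 _ (Pd.mem _)).symm]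
      | one => rw [map_one]; exact Commute.one_right g
      | mul x y _ _ hx hy => rw [map_mul]; exact hx.mul_right hy
      | inv x _ hx => rw [map_inv]; exact hx.inv_right
    rw [Subgroup.mem_centralizer_iff]
    intro t ht
    rw [← hTT] at ht
    obtain ⟨p, rfl⟩ := C.surj t ht
    exact (hall _).eq.symm
  have hFeq : Subgroup.normalizer (X : Set G) ⊓ Subgroup.centralizer T =
      K ⊓ Subgroup.centralizer ({e} : Set G) := by
    ext g
    simp only [hKdef, Subgroup.mem_inf, Subgroup.mem_centralizer_iff, H, Set.mem_singleton_iff]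
    constructor
    · rintro ⟨h1, h2⟩
      exact ⟨⟨h1, fun y hy => hy.symm ▸ h2 d hd, fun y hy => h2 y hy.1⟩, fun y hy => hy.symm ▸ h2 e he.1⟩
    · rintro ⟨⟨h1, h2, h3'⟩, h4⟩
      exact ⟨h1, Subgroup.mem_centralizer_iff.mp (hfix g (h2 d rfl).symm h3' (h4 e rfl).symm)⟩
  have hne3 : e ≠ d * e * d := fun h => he.2 (by
    show d * e = e * d
    conv_lhs => rw [h]
    rw [← mul_assoc, ← mul_assoc, mul_self hD.1 hd.1, one_mul])
  have horbit : Nat.card K = 2 * Nat.card (K ⊓ Subgroup.centralizer ({e} : Set G) : Subgroup G) := by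
    rw [← Set.ncard_pair hne3]
    refine card_eq_orbit_mul (fun g hg => ?_) ?_
    · simp only [hKdef, Subgroup.mem_inf] at hg
      obtain ⟨hg1, hg2, hg3⟩ := hg
      have hu : g * e * g⁻¹ ∈ T := normalizer_conj_fixed hD.2.1 hg1 he.1
      have hgd : g * d * g⁻¹ = d := by
        rw [Subgroup.mem_centralizer_singleton_iff.mp hg2, mul_inv_cancel_right]
      obtain ⟨pd, hpd⟩ := Cc.surj d hd
      obtain ⟨pe, hpe⟩ := Cc.surj e he.1
      obtain ⟨pu, hpu⟩ := Cc.surj _ hu
      have hcd : ∀ {p r : Kn (n + 2)}, p ≠ r → (Commute (Cc.P p) (Cc.P r) ↔ Dis p r) := fun {p r} hne =>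
        Cc.commute_iff.trans ⟨fun h => h.resolve_left hne, Or.inr⟩
      have hnde : ¬ Commute d (g * e * g⁻¹) := fun hc => he.2 (by
        have := (commute_conj_iff g d e).mp (by simpa [MulAut.conj_apply, hgd] using hc)
        exact this)
      have key : pu = pe ∨ sw pu = sw pd * sw pe * sw pd := by
        refine triangle_of_common (Or.inr (by omega)) ?_ ?_ ?_ ?_ fun v hdv hev => ?_
        · exact fun h => he.2 (by rw [← hpd, ← hpe]; exact Cc.commute_iff.mpr (Or.inr h))
        · exact fun h => he.2 (by rw [← hpd, ← hpe, h])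
        · exact fun h => hnde (by rw [← hpd, ← hpu]; exact Cc.commute_iff.mpr (Or.inr h))
        · exact fun h => hnde (by rw [← hpu, h, hpd])
        · have hvd : Commute d (Cc.P v) := by rw [← hpd]; exact Cc.commute_iff.mpr (Or.inr hdv)
          have hve : Commute e (Cc.P v) := by rw [← hpe]; exact Cc.commute_iff.mpr (Or.inr hev)
          have hvne : Cc.P v ≠ d := fun h => he.2 (by
            show Commute d e
            rw [← h]; exact hve.symm)
          have hgv : g * Cc.P v * g⁻¹ = Cc.P v := by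
            rw [← Subgroup.mem_centralizer_iff.mp hg3 _ ⟨Cc.mem v, hvne, hvd⟩, mul_inv_cancel_right]
          have hc : Commute (g * e * g⁻¹) (Cc.P v) := by
            have := (commute_conj_iff g e (Cc.P v)).mpr hve
            simpa [MulAut.conj_apply, hgv] using this
          have hvu : pu ≠ v := fun h => hnde (by rw [← hpu, h]; exact hvd)
          exact dis_symm ((hcd hvu).mp (by
            show Commute (Cc.φ (sw pu)) (Cc.φ (sw v))
            rw [hpu]; exact hc))
      rcases key with h | h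
      · exact Or.inl (by rw [← hpu, h, hpe])
      · exact Or.inr (by
          show g * e * g⁻¹ = d * e * d
          rw [← hpu, h, map_mul, map_mul, hpd, hpe])
    · rintro y (rfl | rfl)
      · exact ⟨1, one_mem _, by simp⟩
      · refine ⟨d, ?_, by rw [inv_eq hD.1 hd.1]⟩
        simp only [hKdef, Subgroup.mem_inf]
        refine ⟨Subgroup.centralizer_le_normalizer (X : Set G) hd.2, mem_cent_self d, ?_⟩
        rw [Subgroup.mem_centralizer_iff]
        exact fun y hy => hy.2.2.eq.symm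
  have hF : Nat.card (Subgroup.normalizer (X : Set G) ⊓ Subgroup.centralizer T : Subgroup G) = 20 := by
    rw [hFeq]; omega
  refine ⟨⟨Cc⟩, ?_, hF, hN⟩
  set C2 := Subgroup.centralizer (X : Set G) ⊓ (H ⊓ Subgroup.centralizer (Nbr D X d)) with hC2def
  have hC2 : Nat.card C2 = 10 := by
    rw [card_preimage M (B := Subgroup.centralizer (img M X : Set Q) ⊓ Subgroup.centralizer (fixed E (img M X)))
      (inf_le_right.trans inf_le_left) fun h => ?_, R'.cen]
    simp only [Subgroup.mem_inf, mem_cen_iff M odd5 hX hXd h, hPiff h]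
    exact ⟨fun h' => ⟨h'.1, h'.2.2⟩, fun h' => ⟨h'.1, h.2, h'.2⟩⟩
  set CC := Subgroup.centralizer (X : Set G) ⊓ Subgroup.centralizer T
  have hle : CC ≤ C2 := by
    intro g hg
    obtain ⟨h1, h2⟩ := Subgroup.mem_inf.mp hg
    refine Subgroup.mem_inf.mpr ⟨h1, Subgroup.mem_inf.mpr ⟨?_, ?_⟩⟩
    · exact Subgroup.mem_centralizer_singleton_iff.mpr (Subgroup.mem_centralizer_iff.mp h2 d hd).symm
    · exact Subgroup.centralizer_le (fun y hy => hy.1) h2
  have hdvd := Subgroup.card_dvd_of_le hle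
  rw [hC2] at hdvd
  have h5 : 5 ∣ Nat.card CC := by
    rw [← hX]
    exact Subgroup.card_dvd_of_le (le_inf (le_centralizer_self hX) fun u hu =>
      Subgroup.mem_centralizer_iff.mpr fun y hy => (Subgroup.mem_centralizer_iff.mp hy.2 u hu).symm)
  have hne : Nat.card CC ≠ 10 := fun h => by
    have heq : CC = C2 := Subgroup.eq_of_le_of_card_ge hle (by rw [h, hC2])
    have hdC2 : d ∈ C2 := Subgroup.mem_inf.mpr ⟨hd.2, Subgroup.mem_inf.mpr ⟨mem_cent_self d,
      Subgroup.mem_centralizer_iff.mpr fun y hy => hy.2.2.eq.symm⟩⟩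
    rw [← heq] at hdC2
    exact he.2 (Subgroup.mem_centralizer_iff.mp (Subgroup.mem_inf.mp hdC2).2 e he.1).symm
  have := Nat.card_pos (α := CC)
  have := Nat.le_of_dvd (by norm_num) hdvd
  omega

/-- the normaliser as a direct product -/
theorem Res.split {n : ℕ} (hn : 3 ≤ n) {X : Subgroup G} (hX : Nat.card X = 5) (R : Res D X n) :
    ∃ F : Subgroup G, Nat.card F = 20 ∧ X ≤ F ∧ F ⊓ Subgroup.centralizer (X : Set G) = X ∧
      F ⊓ Subgroup.closure (fixed D X) = ⊥ ∧
      (∀ x ∈ F, ∀ y ∈ Subgroup.closure (fixed D X), x * y = y * x) ∧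
      F ⊔ Subgroup.closure (fixed D X) = Subgroup.normalizer (X : Set G) ∧
      Nonempty (↥(Subgroup.closure (fixed D X)) ≃* Equiv.Perm (Fin n)) := by
  obtain ⟨C⟩ := R.coord
  set T := fixed D X
  set F := Subgroup.normalizer (X : Set G) ⊓ Subgroup.centralizer T
  have hXF : X ≤ F := le_inf Subgroup.le_normalizer fun x hx => by
    rw [Subgroup.mem_centralizer_iff]
    exact fun y hy => (Subgroup.mem_centralizer_iff.mp hy.2 x hx).symm
  have hinf : F ⊓ Subgroup.closure T = ⊥ := by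
    rw [Subgroup.eq_bot_iff_forall]
    intro z hz
    obtain ⟨hz1, hz2⟩ := Subgroup.mem_inf.mp hz
    exact C.eq_one_of_centralizing hn hz2 (Subgroup.mem_inf.mp hz1).2
  refine ⟨F, R.frob, hXF, ?_, hinf, fun x hx y hy => ?_, ?_, ⟨C.iso⟩⟩
  · refine (Subgroup.eq_of_le_of_card_ge (le_inf hXF (le_centralizer_self hX)) ?_).symm
    rw [hX, ← R.cen]
    refine Subgroup.card_le_of_le fun z hz => ?_
    obtain ⟨hz1, hz2⟩ := Subgroup.mem_inf.mp hz
    exact Subgroup.mem_inf.mpr ⟨hz2, (Subgroup.mem_inf.mp hz1).2⟩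
  · exact (Levels.commute_closure (u := x) (fun y hy =>
      (Subgroup.mem_centralizer_iff.mp (Subgroup.mem_inf.mp hx).2 y hy).symm) y hy).eq
  · have hle : F ⊔ Subgroup.closure T ≤ Subgroup.normalizer (X : Set G) :=
      sup_le inf_le_left ((Subgroup.closure_le _).mpr fun y hy =>
        Subgroup.centralizer_le_normalizer (X : Set G) hy.2)
    refine Subgroup.eq_of_le_of_card_ge hle ?_
    let f : F × Subgroup.closure T → (F ⊔ Subgroup.closure T : Subgroup G) :=
      fun p => ⟨p.1.1 * p.2.1, mul_mem (Subgroup.mem_sup_left p.1.2) (Subgroup.mem_sup_right p.2.2)⟩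
    have hf : Function.Injective f := fun p q h =>
      Subgroup.mul_injective_of_disjoint (disjoint_iff.mpr hinf) (congrArg Subtype.val h)
    have h := Nat.card_le_card_of_injective f hf
    rw [Nat.card_prod, R.frob, Nat.card_congr C.iso.toEquiv, Nat.card_perm, Nat.card_fin] at h
    rw [R.nor]
    exact h

end Cfsg.Agent.Lib.FischerMTypes.Five
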