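import Mathlib
import Cfsg.Agent.Lib.FischerMTypes.Eleven.Unitary
import Cfsg.Agent.Lib.FischerMTypes.Five.Step

/-!
All subgroups of order 5 centralise a transposition and are conjugate.
-/

set_option autoImplicit false
set_option linter.style.haveILetI false
set_option linter.unusedSectionVars false

namespace Cfsg.Agent.Lib.FischerMTypes.Five

open Cfsg.Agent.Lib.FischerMTypes.Basic Cfsg.Agent.Lib.FischerMTypes.Primitive
open Cfsg.Agent.Lib.FischerMTypes.Eleven (fixed Down mem_cent_perp mem_cent_self card_eq_orbit_mul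
  normalizer_conj_fixed mem_normalizer_of_conj)
open Cfsg.Agent.Lib.FischerMTypes.PrimeOnce

variable {G : Type*} [Group G] [Finite G] {D : Set G} {Q : Type*} [Group Q] [Finite Q] {E : Set Q}

theorem conj_le_cent (hD : Cfsg.IsThreeTranspositionGroup D) {X : Subgroup G} {g d : G}
    (hd : d ∈ fixed D X) : g * d * g⁻¹ ∈ fixed D (X.map (MulAut.conj g).toMonoidHom) := by
  refine ⟨hD.2.1 g d hd.1, ?_⟩
  rw [SetLike.mem_coe, Subgroup.mem_centralizer_iff]
  rintro _ ⟨u, hu, rfl⟩
  exact ((commute_conj_iff g u d).mpr (Subgroup.mem_centralizer_iff.mp hd.2 u hu)).eq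

/-- subgroups centralising transpositions are conjugate -/
theorem conj_of_meet (hD : Cfsg.IsThreeTranspositionGroup D)
    (hcl : ∀ a ∈ D, ∀ b ∈ D, ∃ g : G, g * a * g⁻¹ = b) (hM : ∀ b ∈ D, Nonempty (Down D b E))
    (hQc : ∀ Y Y' : Subgroup Q, Nat.card Y = 5 → Nat.card Y' = 5 →
      ∃ q : Q, Y.map (MulAut.conj q).toMonoidHom = Y')
    {X X' : Subgroup G} (hX : Nat.card X = 5) (hX' : Nat.card X' = 5) (h : (fixed D X).Nonempty)
    (h' : (fixed D X').Nonempty) : ∃ g : G, X.map (MulAut.conj g).toMonoidHom = X' := by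
  obtain ⟨d, hd⟩ := h
  obtain ⟨d', hd'⟩ := h'
  obtain ⟨g, hg⟩ := hcl d hd.1 d' hd'.1
  obtain ⟨M⟩ := hM d' hd'.1
  set X1 := X.map (MulAut.conj g).toMonoidHom
  have hX1 : Nat.card X1 = 5 := by
    rw [← Nat.card_congr (Subgroup.equivMapOfInjective X _ (MulAut.conj g).injective).toEquiv, hX]
  have h1 : d' ∈ fixed D X1 := hg ▸ conj_le_cent hD hd
  have hle1 := le_cent_of_mem h1.2
  have hle' := le_cent_of_mem hd'.2
  obtain ⟨q, hq⟩ := hQc _ _ (card_img M odd5 hX1 hle1) (card_img M odd5 hX' hle')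
  obtain ⟨⟨h, hh⟩, rfl⟩ := M.surj q
  refine ⟨h * g, Subgroup.eq_of_le_of_card_ge ?_ ?_⟩
  · rintro _ ⟨u, hu, rfl⟩
    have hu1 : g * u * g⁻¹ ∈ X1 := ⟨u, hu, rfl⟩
    set v : Subgroup.centralizer ({d'} : Set G) := ⟨g * u * g⁻¹, hle1 hu1⟩
    have hmem : MulAut.conj (M.π ⟨h, hh⟩) (M.π v) ∈ img M X' := hq ▸ ⟨M.π v, ⟨v, hu1, rfl⟩, rfl⟩
    rw [MulAut.conj_apply, ← map_inv, ← map_mul, ← map_mul] at hmem
    obtain ⟨w, hw, hwe⟩ := hmem
    have e := eq_of_image M odd5 (u := ⟨h, hh⟩ * v * ⟨h, hh⟩⁻¹) (v := w)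
      (by rw [conj_pow, pow_prime hX1 (u := v) hu1]; simp) (pow_prime hX' hw) hwe.symm
    have e' : h * (g * u * g⁻¹) * h⁻¹ = (w : G) := congrArg Subtype.val e
    show h * g * u * (h * g)⁻¹ ∈ X'
    rw [show h * g * u * (h * g)⁻¹ = h * (g * u * g⁻¹) * h⁻¹ by group, e']
    exact hw
  · rw [← Nat.card_congr (Subgroup.equivMapOfInjective X _ (MulAut.conj (h * g)).injective).toEquiv, hX, hX']

variable {X : Subgroup G} {x s : G}

/-- the group generated by two commuting elements of order 5 -/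
structure Pair (x s : G) : Prop where
  x5 : x ^ 5 = 1
  s5 : s ^ 5 = 1
  comm : Commute x s
  indep : ∀ i j : ℕ, x ^ i * s ^ j = 1 → i % 5 = 0 ∧ j % 5 = 0

/-- that group -/
abbrev pairGroup (x s : G) : Subgroup G := Subgroup.closure {x, s}

theorem Pair.mem (h : Pair x s) {z : G} (hz : z ∈ pairGroup x s) :
    ∃ i j : ℕ, i < 5 ∧ j < 5 ∧ z = x ^ i * s ^ j := by
  suffices ∃ i j : ℕ, z = x ^ i * s ^ j by
    obtain ⟨i, j, rfl⟩ := this
    exact ⟨i % 5, j % 5, Nat.mod_lt _ (by norm_num), Nat.mod_lt _ (by norm_num),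
      by rw [← pow_eq_pow_mod i h.x5, ← pow_eq_pow_mod j h.s5]⟩
  induction hz using Subgroup.closure_induction with
  | mem y hy =>
    rcases hy with rfl | rfl
    · exact ⟨1, 0, by simp⟩
    · exact ⟨0, 1, by simp⟩
  | one => exact ⟨0, 0, by simp⟩
  | mul a b _ _ ha hb =>
    obtain ⟨i, j, rfl⟩ := ha
    obtain ⟨k, l, rfl⟩ := hb
    refine ⟨i + k, j + l, ?_⟩
    rw [pow_add, pow_add, (h.comm.symm.pow_pow j k).mul_mul_mul_comm]
  | inv a _ ha =>
    obtain ⟨i, j, rfl⟩ := ha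
    refine ⟨4 * i, 4 * j, inv_eq_of_mul_eq_one_right ?_⟩
    rw [(h.comm.symm.pow_pow j (4 * i)).mul_mul_mul_comm, ← pow_add, ← pow_add,
      show i + 4 * i = 5 * i by ring, show j + 4 * j = 5 * j by ring, pow_mul, pow_mul, h.x5, h.s5,
      one_pow, one_pow, one_mul]

theorem Pair.card (h : Pair x s) : Nat.card (pairGroup x s) = 25 := by
  let f : Fin 5 × Fin 5 → pairGroup x s := fun p =>
    ⟨x ^ (p.1 : ℕ) * s ^ (p.2 : ℕ), mul_mem (pow_mem (Subgroup.subset_closure (by simp)) _)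
      (pow_mem (Subgroup.subset_closure (by simp)) _)⟩
  have hf : Function.Bijective f := by
    constructor
    · intro p q he
      have he' : x ^ (p.1 : ℕ) * s ^ (p.2 : ℕ) = x ^ (q.1 : ℕ) * s ^ (q.2 : ℕ) := congrArg Subtype.val he
      have := h.indep (p.1 + 4 * q.1) (p.2 + 4 * q.2) (by
        rw [pow_add, pow_add, (h.comm.pow_pow (4 * q.1) p.2).mul_mul_mul_comm, he',
          ← (h.comm.pow_pow (4 * q.1) q.2).mul_mul_mul_comm, ← pow_add, ← pow_add,
          show (q.1 : ℕ) + 4 * q.1 = 5 * q.1 by ring, show (q.2 : ℕ) + 4 * q.2 = 5 * q.2 by ring,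
          pow_mul, pow_mul, h.x5, h.s5, one_pow, one_pow, one_mul])
      refine Prod.ext (Fin.ext ?_) (Fin.ext ?_) <;> omega
    · rintro ⟨z, hz⟩
      obtain ⟨i, j, hi, hj, rfl⟩ := h.mem hz
      exact ⟨(⟨i, hi⟩, ⟨j, hj⟩), rfl⟩
  rw [← Nat.card_eq_of_bijective f hf, Nat.card_prod, Nat.card_fin]

/-- with a Sylow subgroup all whose elements centralise a transposition, so does every subgroup of order 5 -/
theorem meet_all (hD : Cfsg.IsThreeTranspositionGroup D) (h : Pair x s)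
    (hG : (Nat.card G).factorization 5 = 2)
    (hall : ∀ z ∈ pairGroup x s, z ≠ 1 → ∃ d ∈ D, Commute z d)
    {Y : Subgroup G} (hY : Nat.card Y = 5) : (fixed D Y).Nonempty := by
  let P : Sylow 5 G := Sylow.ofCard (pairGroup x s) (by rw [h.card, hG]; norm_num)
  obtain ⟨P', hP'⟩ := (IsPGroup.of_card (p := 5) (n := 1) (by rw [hY, pow_one]) :
    IsPGroup 5 Y).exists_le_sylow
  obtain ⟨g, hg⟩ := MulAction.exists_smul_eq G P' P
  have hg' : (P' : Subgroup G).map (MulAut.conj g).toMonoidHom = pairGroup x s :=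
    congrArg Sylow.toSubgroup hg
  obtain ⟨y, hy, rfl⟩ := exists_gen (p := 5) hY
  have hmem : g * y * g⁻¹ ∈ pairGroup x s := hg' ▸ ⟨y, hP' (Subgroup.mem_zpowers y), rfl⟩
  have hne : g * y * g⁻¹ ≠ 1 := fun h' => by
    rw [conj_eq_one_iff] at h'
    rw [h', orderOf_one] at hy
    omega
  obtain ⟨d, hd, hdc⟩ := hall _ hmem hne
  refine ⟨g⁻¹ * d * g, by simpa using hD.2.1 g⁻¹ d hd, ?_⟩
  rw [SetLike.mem_coe, centralizer_zpowers, Subgroup.mem_centralizer_singleton_iff]
  have := (commute_conj_iff g⁻¹ (g * y * g⁻¹) d).mpr hdc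
  simp only [MulAut.conj_apply, inv_inv] at this
  rw [show g⁻¹ * (g * y * g⁻¹) * g = y by group] at this
  exact this.eq.symm

/-- the Sylow subgroup attached to a centralised transposition -/
theorem pair_of {n : ℕ} (hn : 3 ≤ n) (hX : Nat.card X = 5) (hx : X = Subgroup.zpowers x)
    (C : Coord (fixed D X) n) {σ : Equiv.Perm (Fin n)} (h5 : σ ^ 5 = 1) (h1 : σ ≠ 1) :
    Pair x (C.φ σ) := by
  have hxX : x ∈ X := hx ▸ Subgroup.mem_zpowers x
  have ho : orderOf x = 5 := by rw [← Nat.card_zpowers, ← hx, hX]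
  have hxc : x ∈ Subgroup.centralizer (fixed D X) :=
    Subgroup.mem_centralizer_iff.mpr fun y hy => (Subgroup.mem_centralizer_iff.mp hy.2 x hxX).symm
  have hσ : C.φ σ ∈ Subgroup.closure (fixed D X) := C.range_eq ▸ ⟨σ, rfl⟩
  have hσX : C.φ σ ∈ Subgroup.centralizer (X : Set G) :=
    (Subgroup.closure_le _).mpr (fun y hy => hy.2) hσ
  refine ⟨ho ▸ pow_orderOf_eq_one x, by rw [← map_pow, h5, map_one],
    Subgroup.mem_centralizer_iff.mp hσX x hxX, fun i j he => ?_⟩
  have hb : x ^ i = 1 := C.eq_one_of_centralizing hn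
    (by rw [eq_inv_of_mul_eq_one_left he]; exact inv_mem (pow_mem hσ j)) (pow_mem hxc i)
  rw [hb, one_mul, ← map_pow] at he
  refine ⟨Nat.mod_eq_zero_of_dvd (ho ▸ orderOf_dvd_of_pow_eq_one hb), ?_⟩
  have : Fact (Nat.Prime 5) := ⟨by norm_num⟩
  have hoσ := orderOf_eq_prime h5 h1
  exact Nat.mod_eq_zero_of_dvd (hoσ ▸ orderOf_dvd_of_pow_eq_one (C.inj (he.trans (map_one C.φ).symm)))

/-- a transposition commuting with the five-cycle centralises the Sylow subgroup -/
theorem all_of_spare {n : ℕ} (hn : 3 ≤ n) (hX : Nat.card X = 5) (hx : X = Subgroup.zpowers x)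
    (C : Coord (fixed D X) n) {σ : Equiv.Perm (Fin n)} (h5 : σ ^ 5 = 1) (h1 : σ ≠ 1) (p : Kn n)
    (hp : sw p * σ = σ * sw p) :
    ∀ z ∈ pairGroup x (C.φ σ), z ≠ 1 → ∃ d ∈ D, Commute z d := by
  intro z hz _
  refine ⟨C.φ (sw p), (C.mem p).1, ?_⟩
  obtain ⟨i, j, -, -, rfl⟩ := (pair_of hn hX hx C h5 h1).mem hz
  refine Commute.mul_left ?_ ?_
  · exact (show Commute x (C.φ (sw p)) from
      Subgroup.mem_centralizer_iff.mp (C.mem p).2 x (hx ▸ Subgroup.mem_zpowers x)).pow_left i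
  · exact ((show Commute σ (sw p) from hp.symm).map C.φ).pow_left j

/-- the six cyclic subgroups of a pair -/
def gen6 (x s : G) : Option (Fin 5) → G
  | none => s
  | some i => x * s ^ (i : ℕ)

/-- degree five: if the five-cycle centralises a transposition then so does all of the Sylow subgroup -/
theorem all_of_count (hD : Cfsg.IsThreeTranspositionGroup D) (h : Pair x s) (hDn : D.ncard = 3510)
    (hF : ∀ z : G, orderOf z = 5 → (∃ d ∈ D, Commute z d) →
      {d | d ∈ D ∧ Commute z d}.ncard = 10)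
    (hboth : ∀ d ∈ D, Commute x d → ¬ Commute s d) (hx : ∃ d ∈ D, Commute x d) (hs : ∃ d ∈ D, Commute s d) :
    ∀ z ∈ pairGroup x s, z ≠ 1 → ∃ d ∈ D, Commute z d := by
  classical
  set P := pairGroup x s
  let F : Option (Fin 5) → Set G := fun o => {d | d ∈ D ∧ Commute (gen6 x s o) d}
  have hord : ∀ o, orderOf (gen6 x s o) = 5 := by
    rintro (_ | i)
    · refine orderOf_eq_prime h.s5 fun e => ?_
      have := (h.indep 0 1 (by rw [pow_zero, pow_one, one_mul]; exact e)).2
      omega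
    · refine orderOf_eq_prime ?_ fun e => ?_
      · show (x * s ^ (i : ℕ)) ^ 5 = 1
        rw [(h.comm.pow_right _).mul_pow, h.x5, one_mul, ← pow_mul, mul_comm, pow_mul, h.s5, one_pow]
      · have := (h.indep 1 i (by rw [pow_one]; exact e)).1
        omega
  -- every element but the identity is a power of a generator
  have hpow : ∀ z ∈ P, z ≠ 1 → ∃ o, ∃ k : ℕ, z = gen6 x s o ^ k ∧ ∃ l : ℕ, gen6 x s o = z ^ l := by
    intro z hz hz1
    obtain ⟨i, j, hi, hj, rfl⟩ := h.mem hz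
    have inv : ∀ k : ℕ, 0 < k → k < 5 → ∃ l : ℕ, k * l % 5 = 1 := fun k h1 h2 => by
      interval_cases k
      exacts [⟨1, rfl⟩, ⟨3, rfl⟩, ⟨2, rfl⟩, ⟨4, rfl⟩]
    rcases Nat.eq_zero_or_pos i with rfl | hi0
    · have hj0 : 0 < j := Nat.pos_of_ne_zero fun e => hz1 (by rw [e]; simp)
      obtain ⟨l, hl⟩ := inv j hj0 hj
      refine ⟨none, j, by simp [gen6], l, ?_⟩
      show s = (x ^ 0 * s ^ j) ^ l
      rw [pow_zero, one_mul, ← pow_mul, pow_eq_pow_mod (j * l) h.s5, hl, pow_one]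
    · obtain ⟨l, hl⟩ := inv i hi0 hi
      refine ⟨some ⟨j * l % 5, Nat.mod_lt _ (by norm_num)⟩, i, ?_, l, ?_⟩
      · show x ^ i * s ^ j = (x * s ^ (j * l % 5)) ^ i
        rw [(h.comm.pow_right _).mul_pow, ← pow_eq_pow_mod (j * l) h.s5, ← pow_mul,
          pow_eq_pow_mod (j * l * i) h.s5, mul_assoc, mul_comm l i, Nat.mul_mod, hl, mul_one, Nat.mod_mod,
          Nat.mod_eq_of_lt hj]
      · show x * s ^ (j * l % 5) = (x ^ i * s ^ j) ^ l
        rw [(h.comm.pow_pow i j).mul_pow, ← pow_mul, ← pow_mul, pow_eq_pow_mod (i * l) h.x5, hl, pow_one,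
          ← pow_eq_pow_mod (j * l) h.s5]
  -- the transpositions moved freely
  let D0 : Set G := {d | d ∈ D ∧ ∀ k ∈ P, Commute k d → k = 1}
  have hab : ∀ a ∈ P, ∀ b ∈ P, Commute a b := by
    intro a ha b hb
    obtain ⟨i, j, -, -, rfl⟩ := h.mem ha
    obtain ⟨k, l, -, -, rfl⟩ := h.mem hb
    exact Commute.mul_left (((Commute.refl x).pow_pow i k).mul_right (h.comm.pow_pow i l))
      ((h.comm.symm.pow_pow j k).mul_right ((Commute.refl s).pow_pow j l))
  letI act : MulAction P D0 :=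
    { smul := fun k d => ⟨k.1 * d.1 * k.1⁻¹, hD.2.1 k.1 d.1 d.2.1, fun m hm hc => d.2.2 m hm (by
        have := (commute_conj_iff k.1⁻¹ m (k.1 * d.1 * k.1⁻¹)).mpr hc
        simp only [MulAut.conj_apply, inv_inv] at this
        rwa [show k.1⁻¹ * m * k.1 = m by rw [mul_assoc, (hab m hm k.1 k.2).eq, inv_mul_cancel_left],
          show k.1⁻¹ * (k.1 * d.1 * k.1⁻¹) * k.1 = d.1 by group] at this)⟩
      one_smul := fun d => Subtype.ext (show (1 : G) * d.1 * 1⁻¹ = d.1 by group)
      mul_smul := fun k m d => Subtype.ext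
        (show k.1 * m.1 * d.1 * (k.1 * m.1)⁻¹ = k.1 * (m.1 * d.1 * m.1⁻¹) * k.1⁻¹ by group) }
  have h25 : 25 ∣ D0.ncard := by
    rw [← h.card, ← Nat.card_coe_set_eq]
    refine Eleven.card_dvd_of_free fun d => ?_
    rw [Subgroup.eq_bot_iff_forall]
    intro k hk
    have hk' : k.1 * d.1 * k.1⁻¹ = d.1 := congrArg Subtype.val hk
    exact Subtype.ext (d.2.2 k.1 k.2 (mul_inv_eq_iff_eq_mul.mp hk'))
  have hsplit : D \ D0 = ⋃ o, F o := by
    ext d
    simp only [Set.mem_sdiff, Set.mem_iUnion]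
    constructor
    · rintro ⟨hd, hd0⟩
      simp only [D0, Set.mem_ofPred_eq, not_and, not_forall] at hd0
      obtain ⟨k, hk, hkd, hk1⟩ := hd0 hd
      obtain ⟨o, -, -, l, hl⟩ := hpow k hk hk1
      exact ⟨o, hd, hl ▸ hkd.pow_left l⟩
    · rintro ⟨o, hd, hc⟩
      refine ⟨hd, fun hd0 => ?_⟩
      have hmem : gen6 x s o ∈ P := by
        rcases o with _ | i
        · exact Subgroup.subset_closure (by simp [gen6])
        · exact mul_mem (Subgroup.subset_closure (by simp)) (pow_mem (Subgroup.subset_closure (by simp)) _)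
      have := hord o
      rw [hd0.2 _ hmem hc, orderOf_one] at this
      omega
  have hdisj : Pairwise (Function.onFun Disjoint F) := by
    intro o o' hne
    show Disjoint (F o) (F o')
    rw [Set.disjoint_left]
    rintro d ⟨hd, h1⟩ ⟨-, h2⟩
    have hxs : Commute x d → Commute s d → False := fun a b => hboth d hd a b
    have hnone : ∀ i : Fin 5, Commute (x * s ^ (i : ℕ)) d → Commute s d → False := fun i a b => hxs (by
      have := a.mul_left (b.pow_left (i : ℕ)).inv_left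
      rwa [mul_inv_cancel_right] at this) b
    rcases o with _ | i <;> rcases o' with _ | j
    · exact hne rfl
    · exact hnone j h2 h1
    · exact hnone i h1 h2
    · refine hnone i h1 ?_
      have hne' : (i : ℕ) ≠ j := fun e => hne (by rw [Fin.ext e])
      have h3 : Commute (s ^ ((i : ℕ) + 4 * j)) d := by
        have := h1.mul_left (h2.pow_left 4)
        simp only [gen6] at this
        rw [(h.comm.pow_right _).mul_pow, (h.comm.symm.pow_pow (i : ℕ) 4).mul_mul_mul_comm, ← pow_mul,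
          ← pow_add, ← pow_succ', h.x5, one_mul, mul_comm (j : ℕ) 4] at this
        exact this
      have inv : ∃ l : ℕ, ((i : ℕ) + 4 * j) * l % 5 = 1 := by
        have hi := i.isLt; have hj := j.isLt
        generalize (i : ℕ) = a at *
        generalize (j : ℕ) = b at *
        interval_cases a <;> interval_cases b <;>
          first
            | omega
            | exact ⟨1, rfl⟩
            | exact ⟨2, rfl⟩
            | exact ⟨3, rfl⟩
            | exact ⟨4, rfl⟩
      obtain ⟨l, hl⟩ := inv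
      have := h3.pow_left l
      rwa [← pow_mul, pow_eq_pow_mod _ h.s5, hl, pow_one] at this
  have hcount : D.ncard = D0.ncard + ∑ o, (F o).ncard := by
    rw [← Set.ncard_sdiff_add_ncard_of_subset (fun d (hd : d ∈ D0) => hd.1) (Set.toFinite _), hsplit,
      Set.ncard_iUnion_of_finite (fun o => Set.toFinite _) hdisj, finsum_eq_sum_of_fintype, add_comm]
  have hFo : ∀ o, (F o).ncard = if (F o).Nonempty then 10 else 0 := by
    intro o
    split_ifs with hne
    · obtain ⟨d, hd⟩ := hne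
      exact hF _ (hord o) ⟨d, hd⟩
    · rw [Set.not_nonempty_iff_eq_empty.mp hne, Set.ncard_empty]
  have hne0 : (F (some 0)).Nonempty := by
    obtain ⟨d, hd, hc⟩ := hx
    exact ⟨d, hd, by simpa [gen6] using hc⟩
  have hne1 : (F none).Nonempty := hs.imp fun d hd => hd
  have hall : ∀ o, (F o).Nonempty := by
    by_contra hcon
    push Not at hcon
    obtain ⟨o, ho⟩ := hcon
    set W := Finset.univ.filter fun o => (F o).Nonempty
    have hsum : ∑ o, (F o).ncard = 10 * W.card := by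
      simp only [hFo, ← Finset.sum_filter, Finset.sum_const, smul_eq_mul, W, mul_comm]
    have h2 : 2 ≤ W.card := by
      refine (show ({none, some 0} : Finset (Option (Fin 5))).card = 2 from rfl) ▸ Finset.card_le_card ?_
      intro a ha
      simp only [Finset.mem_insert, Finset.mem_singleton] at ha
      rcases ha with rfl | rfl <;> simp [W, hne0, hne1]
    have h5 : W.card < 6 := by
      refine lt_of_lt_of_eq (Finset.card_lt_card ⟨Finset.subset_univ W, fun hsub => ?_⟩) (by simp)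
      have := hsub (Finset.mem_univ o)
      simp [W, ho] at this
    obtain ⟨q, hq⟩ := h25
    omega
  intro z hz hz1
  obtain ⟨o, k, rfl, -⟩ := hpow z hz hz1
  obtain ⟨d, hd, hc⟩ := hall o
  exact ⟨d, hd, hc.pow_left k⟩

end Cfsg.Agent.Lib.FischerMTypes.Five
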