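import Mathlib
import Cfsg.Agent.Lib.FischerMTypes.Five.Step

/-!
How many fixed neighbours of a fixed transposition commute with a fixed far one.
-/

set_option autoImplicit false
set_option linter.style.haveILetI false
set_option linter.unusedSectionVars false

namespace Cfsg.Agent.Lib.FischerMTypes.Five

open Cfsg.Agent.Lib.FischerMTypes.Basic Cfsg.Agent.Lib.FischerMTypes.Primitive
open Cfsg.Agent.Lib.FischerMTypes.Eleven (fixed Down mem_cent_perp mem_cent_self card_eq_orbit_mul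
  normalizer_conj_fixed)
open Cfsg.Agent.Lib.FischerMTypes.PrimeOnce

variable {G : Type*} [Group G] [Finite G] {D : Set G} {Q : Type*} [Group Q] [Finite Q] {E : Set Q}

variable (hD : Cfsg.IsThreeTranspositionGroup D) (hM : ∀ b ∈ D, Nonempty (Down D b E)) {n : ℕ}
  (hQ : ∀ Y : Subgroup Q, Nat.card Y = 5 → Res E Y n) {X : Subgroup G} (hX : Nat.card X = 5)
  {c0 c1 c2 c3 : ℕ} (Cn : Counts n c0 c1 c2 c3)

/-- the neighbours of `d` commuting with `e` -/
abbrev Both (D : Set G) (X : Subgroup G) (d e : G) : Set G := {b | b ∈ Nbr D X d ∧ Commute b e}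

include hD hM hQ hX Cn in
theorem ncard_nbr {d : G} (hd : d ∈ fixed D X) : (Nbr D X d).ncard = c0 := by
  obtain ⟨Pd⟩ := exists_pts hD hM hQ hX hd
  rw [← Cn.size, ← Set.ncard_univ]
  exact Pd.ncard_sub (fun _ => True) _ (fun u hu => hu) (fun p => ⟨fun _ => trivial, fun _ => Pd.mem p⟩)

include hD hM hQ hX Cn in
/-- the numerical relations at a pair of non-commuting fixed transpositions -/
theorem both_spec {d : G} (hd : d ∈ fixed D X) {O S₀ : ℕ}
    (hO : {y | y ∈ D ∧ ¬ Commute d y}.ncard = O) (hS : O * S₀ = 2 * Nat.card Q) (h5 : 5 ∣ S₀)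
    (h25 : ¬ 5 ^ 2 ∣ S₀) {e : G} (he : e ∈ Far D X d) :
    (Both D X d e).ncard ≤ c0 ∧ ∃ f m i, f * (Both D X d e).ncard = c0 * c2 ∧
      f * m = 2 * (20 * n.factorial) ∧ m * i = S₀ ∧ i % 5 = 1 := by
  classical
  obtain ⟨M⟩ := hM d hd.1
  have hXd := le_cent_of_mem hd.2
  set H := Subgroup.centralizer ({d} : Set G)
  set O' := {y | y ∈ D ∧ ¬ Commute d y}
  have hin : ∀ g ∈ H, ∀ y ∈ O', g * y * g⁻¹ ∈ O' := by
    intro g hg y hy
    refine ⟨hD.2.1 g y hy.1, fun hc => hy.2 ?_⟩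
    have := (commute_conj_iff g d y).mp
    simp only [MulAut.conj_apply, Subgroup.mem_centralizer_singleton_iff.mp hg, mul_inv_cancel_right] at this
    exact this hc
  have htr : ∀ x ∈ O', ∀ y ∈ O', ∃ g ∈ H, g * x * g⁻¹ = y :=
    fun x hx y hy => M.far x hx.1 hx.2 y hy.1 hy.2
  have heO : e ∈ O' := ⟨he.1.1, he.2⟩
  have hO0 : 0 < O := hO ▸ (Set.ncard_pos (Set.toFinite _)).mpr ⟨e, heO⟩
  have hstab : ∀ y ∈ O', Nat.card (H ⊓ Subgroup.centralizer ({y} : Set G) : Subgroup G) = S₀ := by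
    intro y hy
    refine Nat.eq_of_mul_eq_mul_left hO0 ?_
    rw [hS, ← M.card_cent, ← hO]
    exact (card_eq_orbit_mul (fun g hg => hin g hg y hy) (htr y hy)).symm
  have honce : ∀ y ∈ O', Once 5 (H ⊓ Subgroup.centralizer ({y} : Set G) : Subgroup G) := fun y hy => by
    unfold Once
    rw [hstab y hy]
    exact ⟨h5, h25⟩
  have hle : ∀ y ∈ Far D X d, X ≤ H ⊓ Subgroup.centralizer ({y} : Set G) := fun y hy u hu =>
    Subgroup.mem_inf.mpr ⟨hXd hu, le_cent_of_mem hy.1.2 hu⟩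
  have hfar : {y | y ∈ O' ∧ y ∈ Subgroup.centralizer (X : Set G)} = Far D X d := by
    ext y
    exact ⟨fun h => ⟨⟨h.1.1, h.2⟩, h.1.2⟩, fun h => ⟨⟨h.1.1, h.2⟩, h.1.2⟩⟩
  have hmul := ncard_fixed_mul' hX hXd hin htr heO he.1.2 fun y hy _ => honce y hy
  rw [card_normalizer_inf M odd5 hX hXd, (hQ _ (card_img M odd5 hX hXd)).nor, hfar] at hmul
  obtain ⟨i, hi, hidx⟩ := exists_index' (honce e heO) hX (hle e he)
  rw [hstab e heO, ← inf_assoc] at hidx
  refine ⟨?_, (Far D X d).ncard, _, i, ?_, hmul.symm, hidx, hi⟩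
  · rw [← ncard_nbr hD hM hQ hX Cn hd]
    exact Set.ncard_le_ncard (fun b hb => hb.1) (Set.toFinite _)
  -- the same number at every fixed far one
  have hmono : ∀ u ∈ Far D X d, ∀ v ∈ Far D X d, (Both D X d u).ncard ≤ (Both D X d v).ncard := by
    intro u hu v hv
    obtain ⟨g₀, hg₀, hguv⟩ := htr u ⟨hu.1.1, hu.2⟩ v ⟨hv.1.1, hv.2⟩
    obtain ⟨g, hg, hgu⟩ := exists_normalizer_move' hX (honce v ⟨hv.1.1, hv.2⟩) (hle u hu) (hle v hv)
      hg₀ hguv
    obtain ⟨hgN, hgH⟩ := Subgroup.mem_inf.mp hg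
    have hgd : g * d * g⁻¹ = d := by
      rw [Subgroup.mem_centralizer_singleton_iff.mp hgH, mul_inv_cancel_right]
    refine Set.ncard_le_ncard_of_injOn (fun b => g * b * g⁻¹) (fun b hb => ?_)
      (fun b _ b' _ h => mul_left_cancel (mul_right_cancel h)) (Set.toFinite _)
    obtain ⟨⟨hb1, hb2, hb3⟩, hb4⟩ := hb
    refine ⟨⟨normalizer_conj_fixed hD.2.1 hgN hb1, fun h => hb2 ?_, ?_⟩, ?_⟩
    · exact mul_left_cancel (mul_right_cancel (h.trans hgd.symm))
    · have := (commute_conj_iff g d b).mpr hb3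
      simpa [MulAut.conj_apply, hgd] using this
    · have := (commute_conj_iff g b u).mpr hb4
      simpa [MulAut.conj_apply, hgu] using this
  have hs : (Set.toFinite (Nbr D X d)).toFinset.card = c0 := by
    rw [← Set.ncard_eq_toFinset_card, ncard_nbr hD hM hQ hX Cn hd]
  have ht : (Set.toFinite (Far D X d)).toFinset.card = (Far D X d).ncard :=
    (Set.ncard_eq_toFinset_card _ _).symm
  rw [← hs, ← ht]
  refine (Finset.card_mul_eq_card_mul (fun b u => Commute b u) (fun b hb => ?_) (fun u hu => ?_)).symm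
  · rw [Set.Finite.mem_toFinset] at hb
    rw [← ncard_far_nbr hD hM hQ hX Cn hd hb, ← Set.ncard_coe_finset]
    congr 1
    ext u
    simp [Finset.bipartiteAbove]
  · rw [Set.Finite.mem_toFinset] at hu
    rw [le_antisymm (hmono e he u hu) (hmono u hu e he), ← Set.ncard_coe_finset]
    congr 1
    ext b
    simp [Finset.bipartiteBelow]
    tauto

include hD hM hQ hX Cn in
/-- a common neighbour has a partner -/
theorem two_le_both {d : G} (hd : d ∈ fixed D X) (hc3 : 0 < c3) {e : G} (he : e ∈ Far D X d)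
    (hne : ∃ b ∈ Nbr D X d, Commute b e) : 2 ≤ (Both D X d e).ncard := by
  obtain ⟨b, hb, hbe⟩ := hne
  obtain ⟨u, hu, hdu, heu⟩ := Set.nonempty_of_ncard_ne_zero
    (by rw [ncard_common hD hM hQ hX Cn hd hb he hbe]; omega :
      {u | u ∈ Nbr D X b ∧ (Commute d u ∧ Commute e u)}.ncard ≠ 0)
  have hud : u ≠ d := fun h => he.2 (h ▸ heu.symm)
  rw [← Set.ncard_pair (Ne.symm hu.2.1)]
  refine Set.ncard_le_ncard ?_ (Set.toFinite _)
  rintro w (rfl | rfl)
  · exact ⟨hb, hbe⟩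
  · exact ⟨⟨hu.1, hud, hdu⟩, heu.symm⟩

include hD hM hQ hX in
/-- one common neighbour below degree five -/
theorem tot_three (hn : n = 3) {d : G} (hd : d ∈ fixed D X) (hO : {y | y ∈ D ∧ ¬ Commute d y}.ncard = 2816)
    (hcard : Nat.card Q = 2 ^ 15 * 3 ^ 6 * 5 * 7 * 11) {e : G} (he : e ∈ Far D X d) :
    (Both D X d e).ncard = 1 := by
  subst hn
  obtain ⟨hle, f, m, i, h1, h2, h3, h4⟩ := both_spec hD hM hQ hX counts_three hd hO (S₀ := 6531840)
    (by rw [hcard]; norm_num) (by norm_num) (by norm_num) he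
  generalize (Both D X d e).ncard = k at *
  have hf : 0 < f := Nat.pos_of_ne_zero fun h => by rw [h, zero_mul] at h1; omega
  have hm : m = 40 * k := Nat.eq_of_mul_eq_mul_left hf (by
    rw [h2, mul_left_comm f, h1]; rfl)
  subst hm
  interval_cases k <;> omega

include hD hM hQ hX in
/-- six common neighbours below degree seven -/
theorem tot_five (hn : n = 5) {d : G} (hd : d ∈ fixed D X)
    (hO : {y | y ∈ D ∧ ¬ Commute d y}.ncard = 28160)
    (hcard : Nat.card Q = 2 ^ 17 * 3 ^ 9 * 5 ^ 2 * 7 * 11 * 13) {e : G} (he : e ∈ Far D X d)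
    (hne : ∃ b ∈ Nbr D X d, Commute b e) : (Both D X d e).ncard = 6 := by
  subst hn
  obtain ⟨hle, f, m, i, h1, h2, h3, h4⟩ := both_spec hD hM hQ hX counts_five hd hO (S₀ := 4585351680)
    (by rw [hcard]; norm_num) (by norm_num) (by norm_num) he
  have h5 := two_le_both hD hM hQ hX counts_five hd Nat.one_pos he hne
  generalize (Both D X d e).ncard = k at *
  have hf : 0 < f := Nat.pos_of_ne_zero fun h => by rw [h, zero_mul] at h1; omega
  have hm : m = 80 * k := Nat.eq_of_mul_eq_mul_left hf (by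
    rw [h2, mul_left_comm f, h1]; rfl)
  subst hm
  interval_cases k <;> omega

end Cfsg.Agent.Lib.FischerMTypes.Five
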