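import Mathlib
import Cfsg.Agent.Lib.FischerMTypes.Eleven.Basic
import Cfsg.Agent.Lib.FischerMTypes.Five.SymSet

/-!
Three pairwise non-commuting transpositions closed under conjugation by each other.
-/

set_option autoImplicit false
set_option linter.style.haveILetI false
set_option linter.unusedSectionVars false

namespace Cfsg.Agent.Lib.FischerMTypes.Five

open Cfsg.Agent.Lib.FischerMTypes.Eleven (card_eq_orbit_mul)

variable {G : Type*} [Group G] [Finite G] {E T : Set G} {a b : G}

/-- the third member -/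
theorem triple (hE : Cfsg.IsThreeTranspositionSet E) (ha : a ∈ E) (_hb : b ∈ E) (hab : ¬ Commute a b) :
    a ≠ b ∧ a * b * a ≠ a ∧ a * b * a ≠ b ∧ ({a, b, a * b * a} : Set G).ncard = 3 := by
  have h1 : a ≠ b := fun h => hab (h ▸ Commute.refl a)
  have haa : a * a = 1 := Basic.mul_self hE ha
  have h2 : a * b * a ≠ a := fun h => h1 (by
    have h' : a * b * a = 1 * a := by rw [h, one_mul]
    have := mul_right_cancel h'
    exact mul_left_cancel (haa.trans this.symm))
  have h3 : a * b * a ≠ b := fun h => hab (by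
    show a * b = b * a
    conv_rhs => rw [← h, mul_assoc, haa, mul_one])
  exact ⟨h1, h2, h3, Set.ncard_eq_three.mpr ⟨a, b, _, h1, Ne.symm h2, Ne.symm h3, rfl⟩⟩

/-- such a set is shaped like the transpositions of degree three -/
theorem coord_three (hE : Cfsg.IsThreeTranspositionSet E) (ha : a ∈ E) (hb : b ∈ E) (hab : ¬ Commute a b)
    (hT : T = {a, b, a * b * a}) : Nonempty (Coord T 3) := by
  let s : ℕ → G := fun i => if i = 0 then a else b
  have hch : SymChain.Chain E 2 s := by
    refine ⟨fun i hi => ?_, fun i hi => ?_, fun i j hij hj => absurd hj (by omega)⟩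
    · simp only [s]; split_ifs
      exacts [ha, hb]
    · obtain rfl : i = 0 := by omega
      simpa [s] using hab
  obtain ⟨φ, hφ, -⟩ := Spectrum.CoxeterSym.exists_lift (SymChain.symRel hE hch)
  have e0 : φ (Equiv.swap (0 : Fin 3) 1) = a := hφ 0
  have e1 : φ (Equiv.swap (1 : Fin 3) 2) = b := hφ 1
  obtain ⟨h1, h2, h3, hcard⟩ := triple hE ha hb hab
  have haa : a * a = 1 := Basic.mul_self hE ha
  have hbb : b * b = 1 := Basic.mul_self hE hb
  have hall : ∀ σ : Equiv.Perm (Fin 3), σ = 1 ∨ σ = Equiv.swap 0 1 ∨ σ = Equiv.swap 1 2 ∨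
      σ = Equiv.swap 0 1 * Equiv.swap 1 2 * Equiv.swap 0 1 ∨ σ = Equiv.swap 0 1 * Equiv.swap 1 2 ∨
      σ = Equiv.swap 1 2 * Equiv.swap 0 1 := by decide +kernel
  have hsw : ∀ p : Kn 3, sw p = Equiv.swap 0 1 ∨ sw p = Equiv.swap 1 2 ∨
      sw p = Equiv.swap 0 1 * Equiv.swap 1 2 * Equiv.swap 0 1 := by decide +kernel
  have hinj : Function.Injective φ := by
    rw [injective_iff_map_eq_one]
    intro σ hσ
    rcases hall σ with rfl | rfl | rfl | rfl | rfl | rfl
    · rfl
    · rw [e0] at hσ; exact absurd hσ (Basic.ne_one hE ha)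
    · rw [e1] at hσ; exact absurd hσ (Basic.ne_one hE hb)
    · rw [map_mul, map_mul, e0, e1] at hσ
      exfalso
      refine Basic.ne_one hE hb ?_
      calc b = a * (a * b * a) * a := by simp only [← mul_assoc, haa, one_mul]; rw [mul_assoc, haa, mul_one]
        _ = 1 := by rw [hσ, mul_one, haa]
    · rw [map_mul, e0, e1] at hσ
      exact absurd (mul_right_cancel (hσ.trans hbb.symm)) h1
    · rw [map_mul, e0, e1] at hσ
      exact absurd (mul_right_cancel (hσ.trans haa.symm)) (Ne.symm h1)
  have hmem : ∀ p : Kn 3, φ (sw p) ∈ T := fun p => by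
    rw [hT]
    rcases hsw p with h | h | h <;> rw [h]
    · exact Or.inl e0
    · exact Or.inr (Or.inl e1)
    · rw [map_mul, map_mul, e0, e1]; exact Or.inr (Or.inr rfl)
  refine ⟨⟨φ, hinj, hmem, ?_⟩⟩
  have hrange : Set.range (fun p : Kn 3 => φ (sw p)) = T := by
    refine Set.eq_of_subset_of_ncard_le (Set.range_subset_iff.mpr hmem) ?_ (Set.toFinite _)
    rw [hT, hcard, show (fun p : Kn 3 => φ (sw p)) = φ ∘ sw from rfl,
      Set.ncard_range_of_injective (hinj.comp sw_inj), Nat.card_eq_fintype_card,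
      show Fintype.card (Kn 3) = 3 by decide +kernel]
  intro t ht
  rw [← hrange] at ht
  exact ht

/-- a group permuting the three and containing them: six times the part fixing all -/
theorem card_mul_six (hE : Cfsg.IsThreeTranspositionSet E) (ha : a ∈ E) (hb : b ∈ E) (hab : ¬ Commute a b)
    (hT : T = {a, b, a * b * a}) {H : Subgroup G} (hTH : T ⊆ H)
    (hin : ∀ g ∈ H, ∀ t ∈ T, g * t * g⁻¹ ∈ T) :
    Nat.card H = 6 * Nat.card (H ⊓ Subgroup.centralizer T : Subgroup G) := by
  obtain ⟨h1, h2, h3, hcard⟩ := triple hE ha hb hab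
  have haT : a ∈ T := by rw [hT]; exact Or.inl rfl
  have hbT : b ∈ T := by rw [hT]; exact Or.inr (Or.inl rfl)
  have hai : a⁻¹ = a := inv_eq_of_mul_eq_one_right (Basic.mul_self hE ha)
  have hbi : b⁻¹ = b := inv_eq_of_mul_eq_one_right (Basic.mul_self hE hb)
  have hbr : a * b * a = b * a * b := Basic.braid hE ha hb hab
  have haH : a ∈ H := hTH haT
  have hbH : b ∈ H := hTH hbT
  have e1 : Nat.card H = 3 * Nat.card (H ⊓ Subgroup.centralizer ({a} : Set G) : Subgroup G) := by
    rw [← hcard, ← hT]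
    refine card_eq_orbit_mul (fun g hg => hin g hg a haT) fun y hy => ?_
    rw [hT] at hy
    rcases hy with h | h | h <;> rw [h]
    · exact ⟨1, one_mem _, by simp⟩
    · refine ⟨a * b, mul_mem haH hbH, ?_⟩
      rw [mul_inv_rev, hai, hbi]
      calc a * b * a * (b * a) = a * b * a * b * a := by group
        _ = b * a * b * b * a := by rw [hbr]
        _ = b := by rw [mul_assoc (b * a) b b, Basic.mul_self hE hb, mul_one, mul_assoc,
            Basic.mul_self hE ha, mul_one]
    · exact ⟨b, hbH, by rw [hbi, hbr]⟩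
  have hset : T \ {a} = {b, a * b * a} := by
    rw [hT]
    ext y
    simp only [Set.mem_sdiff, Set.mem_insert_iff, Set.mem_singleton_iff]
    constructor
    · rintro ⟨h | h | h, hne⟩
      exacts [absurd h hne, Or.inl h, Or.inr h]
    · rintro (h | h) <;> refine ⟨by tauto, ?_⟩ <;> rw [h]
      exacts [Ne.symm h1, h2]
  have e2 : Nat.card (H ⊓ Subgroup.centralizer ({a} : Set G) : Subgroup G) =
      2 * Nat.card (H ⊓ Subgroup.centralizer ({a} : Set G) ⊓ Subgroup.centralizer ({b} : Set G) :
        Subgroup G) := by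
    rw [← Set.ncard_pair (Ne.symm h3), ← hset]
    refine card_eq_orbit_mul (fun g hg => ?_) fun y hy => ?_
    · obtain ⟨hg1, hg2⟩ := Subgroup.mem_inf.mp hg
      refine ⟨hin g hg1 b hbT, fun h => h1 ?_⟩
      have hga : g * a * g⁻¹ = a := by
        rw [Subgroup.mem_centralizer_singleton_iff.mp hg2, mul_inv_cancel_right]
      exact mul_left_cancel (mul_right_cancel (hga.trans (Set.mem_singleton_iff.mp h).symm))
    · rw [hset] at hy
      rcases hy with h | h <;> rw [h]
      · exact ⟨1, one_mem _, by simp⟩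
      · exact ⟨a, Subgroup.mem_inf.mpr ⟨haH, Subgroup.mem_centralizer_singleton_iff.mpr rfl⟩, by rw [hai]⟩
  have e3 : Subgroup.centralizer ({a} : Set G) ⊓ Subgroup.centralizer ({b} : Set G) =
      Subgroup.centralizer T := by
    ext z
    rw [hT]
    simp only [Subgroup.mem_inf, Subgroup.mem_centralizer_iff, Set.mem_insert_iff, Set.mem_singleton_iff,
      forall_eq_or_imp, forall_eq]
    refine ⟨fun ⟨u, v⟩ => ⟨u, v, ?_⟩, fun ⟨u, v, _⟩ => ⟨u, v⟩⟩
    exact ((Commute.mul_left (Commute.mul_left u v) u : Commute (a * b * a) z)).eq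
  rw [e1, e2, inf_assoc, e3]
  ring

end Cfsg.Agent.Lib.FischerMTypes.Five
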