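import Mathlib
import Cfsg.Agent.Lib.FischerMTypes.OrderWidth
import Cfsg.Agent.Lib.FischerMTypes.Prime.Down
import Cfsg.Agent.Lib.FischerMTypes.Prime.Models
import Cfsg.Agent.Lib.FischerMTypes.Five.Step
import Cfsg.Agent.Lib.FischerMTypes.Five.Triple
import Cfsg.Agent.Lib.FischerMTypes.Five.Unitary

/-!
Subgroups of order 5 in the central quotient of the centraliser of a transposition in type M(22).
-/

set_option autoImplicit false
set_option linter.style.haveILetI false
set_option linter.unusedSectionVars false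

namespace Cfsg.Agent.Lib.FischerMTypes.Five

open Cfsg.Agent.Lib.FischerMTypes.Basic Cfsg.Agent.Lib.FischerMTypes.Primitive
  Cfsg.Agent.Lib.FischerMTypes.Levels Cfsg.Agent.Lib.FischerMTypes.Unique
  Cfsg.Agent.Lib.FischerMTypes.PointModel Cfsg.Agent.Lib.FischerMTypes.TraceCounts
open Cfsg.Agent.Lib.UnitaryFour.Transvection Cfsg.Agent.Lib.UnitaryFour.Classes
open Cfsg.Agent.Lib.FischerMTypes.Eleven (fixed fixS mem_fixS card_comap)
open Cfsg.Agent.Lib.FischerMTypes.PrimeOnce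
open Cfsg.Agent.Lib.Unitary (herm_smul_left herm_smul_right herm_eq_zero_symm)

universe u

section Lift

variable {F : Type*} [Field F] [Fintype F] {K : Type*} [Group K] (φ : Cfsg.SU 6 F 2 →* K)

theorem ker_cube (hF : Fintype.card F = 2 ^ 2) (hker : φ.ker = Subgroup.center (Cfsg.SU 6 F 2))
    {z : Cfsg.SU 6 F 2} (hz : φ z = 1) : z ^ 3 = 1 := by
  have h3 : Nat.card φ.ker = 3 := by rw [hker, Seven.card_center hF]
  have : (⟨z, hz⟩ : φ.ker) ^ 3 = 1 := by rw [← h3]; exact pow_card_eq_one'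
  exact congrArg Subtype.val this

theorem sixth (hF : Fintype.card F = 2 ^ 2) (hker : φ.ker = Subgroup.center (Cfsg.SU 6 F 2))
    {g : Cfsg.SU 6 F 2} (hk : orderOf (φ g) = 5) : orderOf (g ^ 6) = 5 ∧ φ (g ^ 6) = φ g := by
  have hk5 : (φ g) ^ 5 = 1 := by rw [← hk]; exact pow_orderOf_eq_one _
  have hφ : φ (g ^ 6) = φ g := by rw [map_pow, pow_succ, hk5, one_mul]
  refine ⟨orderOf_eq_prime ?_ fun h1 => ?_, hφ⟩
  · rw [← pow_mul, show 6 * 5 = 5 * 3 * 2 from rfl, pow_mul, pow_mul,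
      ker_cube φ hF hker (by rw [map_pow, hk5]), one_pow]
  · rw [← hφ, h1, map_one, orderOf_one] at hk
    omega

theorem comm_of_comm (hF : Fintype.card F = 2 ^ 2) (hker : φ.ker = Subgroup.center (Cfsg.SU 6 F 2))
    {x g : Cfsg.SU 6 F 2} (hx : x ^ 5 = 1) (h : φ g * φ x = φ x * φ g) : g * x = x * g := by
  set z := x⁻¹ * (g * x * g⁻¹)
  have hz : φ z = 1 := by
    simp only [z, map_mul, map_inv]
    rw [h, mul_inv_cancel_right, inv_mul_cancel]
  have hz1 : z = 1 := by
    have hc : Commute x z := Subgroup.mem_center_iff.mp (hker ▸ hz : z ∈ Subgroup.center _) x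
    have h' : g * x * g⁻¹ = x * z := by simp [z]
    have h5 : z ^ 5 = 1 := by
      have := congrArg (· ^ 5) h'
      simpa [conj_pow, hx, hc.mul_pow] using this.symm
    calc z = z ^ 6 * (z ^ 5)⁻¹ := by rw [pow_succ' z 5, mul_inv_cancel_right]
      _ = 1 := by rw [show z ^ 6 = (z ^ 3) ^ 2 from pow_mul z 3 2, ker_cube φ hF hker hz, h5]; simp
  exact mul_inv_eq_iff_eq_mul.mp (inv_mul_eq_one.mp hz1).symm

/-- what centralises the image of `x` and two spanning fixed points comes from the fixer -/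
theorem mem_map_fixer (hF : Fintype.card F = 2 ^ 2) (hker : φ.ker = Subgroup.center (Cfsg.SU 6 F 2))
    {x : Cfsg.SU 6 F 2} (hx : orderOf x = 5) {u v : Fin 6 → F}
    (huu : Cfsg.hermForm 6 F 2 u u = 0) (hvv : Cfsg.hermForm 6 F 2 v v = 0) (hu0 : u ≠ 0) (hv0 : v ≠ 0)
    (huv : Cfsg.hermForm 6 F 2 u v ≠ 0) (hsp : Submodule.span F (Set.range ![u, v]) = fixS x)
    (surj : Function.Surjective φ) {q : K} (hq : q * φ x = φ x * q)
    (hqu : φ (tv hF u huu) * q = q * φ (tv hF u huu)) (hqv : φ (tv hF v hvv) * q = q * φ (tv hF v hvv)) :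
    q ∈ (fixer x).map φ := by
  obtain ⟨h, rfl⟩ := surj q
  have hhx := comm_of_comm φ hF hker (pow_five hx) hq
  have hline : ∀ w (hw : Cfsg.hermForm 6 F 2 w w = 0), w ≠ 0 →
      φ (tv hF w hw) * φ h = φ h * φ (tv hF w hw) → ∃ c : F, c ≠ 0 ∧ act h w = c • w := by
    intro w hw hw0 hwh
    have hhw : Cfsg.hermForm 6 F 2 (act h w) (act h w) = 0 := by rw [act_herm]; exact hw
    have hhw0 : act h w ≠ 0 := fun e => hw0 (by rw [← act_inv_self h w, e]; simp [act_def])
    refine (eq_iff_parallel φ hF hker.le hw hhw hw0 hhw0).mp ?_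
    rw [tv_conj hF h hw hhw, map_mul, map_mul, map_inv, ← hwh, mul_inv_cancel_right]
  obtain ⟨c, hc0, hc⟩ := hline u huu hu0 hqu
  obtain ⟨d, hd0, hd⟩ := hline v hvv hv0 hqv
  have hcd : c = d := by
    have e := act_herm h u v
    rw [hc, hd, herm_smul_left, herm_smul_right] at e
    have e' : (c * d ^ 2 - 1) * Cfsg.hermForm 6 F 2 u v = 0 := by linear_combination e
    have e'' := sub_eq_zero.mp ((mul_eq_zero.mp e').resolve_right huv)
    linear_combination d * e'' - c * UnitaryFour.Transvection.cube_eq_one hF hd0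
  obtain ⟨z, hz, hzs⟩ := exists_scalar hF (inv_ne_zero hc0)
  refine ⟨z * h, mem_fixer.mpr ⟨?_, ?_⟩, ?_⟩
  · rw [mul_assoc, hhx, ← mul_assoc, ← (Subgroup.mem_center_iff.mp hz x), mul_assoc]
  · rw [← hsp, Submodule.span_le]
    rintro _ ⟨i, rfl⟩
    rw [SetLike.mem_coe, mem_fixS, act_mul, hzs]
    fin_cases i
    · show c⁻¹ • act h u = u
      rw [hc, smul_smul, inv_mul_cancel₀ hc0, one_smul]
    · show c⁻¹ • act h v = v
      rw [hd, hcd, smul_smul, inv_mul_cancel₀ hd0, one_smul]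
  · have hz1 : φ z = 1 := by rw [← MonoidHom.mem_ker, hker]; exact hz
    rw [map_mul, hz1, one_mul]

theorem card_map_fixer_le (hF : Fintype.card F = 2 ^ 2) {x : Cfsg.SU 6 F 2} (hx : orderOf x = 5) :
    Nat.card ((fixer x).map φ) ≤ 5 :=
  (Nat.le_of_dvd Nat.card_pos ((fixer x).card_map_dvd φ)).trans (card_fixer_le hF hx)

end Lift

variable {G : Type u} [Group G] [Finite G] {D : Set G} {F : Type} [Field F] [Fintype F] {a : G}

local notation "h⟪" u ", " v "⟫" => Cfsg.hermForm 6 F 2 u v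

theorem im_mem {y : G} (hy : y ∈ perp D a) : im D a hy ∈ setAt D a := ⟨_, hy, rfl⟩

theorem exists_tv_rep (C : Ctx D a F) {q : QuotAt D a} (hq : q ∈ setAt D a) :
    ∃ (v : Fin 6 → F) (hv : h⟪v, v⟫ = 0), v ≠ 0 ∧ q = C.φ (tv C.hF v hv) := by
  obtain ⟨⟨y, hyc⟩, hy, rfl⟩ := hq
  exact C.exists_vec hy

theorem tv_mem (C : Ctx D a F) {v : Fin 6 → F} (hv : h⟪v, v⟫ = 0) (hv0 : v ≠ 0) :
    C.φ (tv C.hF v hv) ∈ setAt D a := C.pt_im hv hv0 ▸ im_mem (C.pt_mem hv hv0)

theorem set_three (C : Ctx D a F) : Cfsg.IsThreeTranspositionSet (setAt D a) := by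
  have h : setAt D a \ {1} = setAt D a := by
    refine Set.sdiff_singleton_eq_self ?_
    rintro ⟨⟨y, hyc⟩, hy, h⟩
    exact im_ne_one' C.hsub C.ha hy h
  exact h ▸ C.quot_closed.1.1

theorem set_conj (hD : Cfsg.IsThreeTranspositionGroup D) (g q : QuotAt D a) (hq : q ∈ setAt D a) :
    g * q * g⁻¹ ∈ setAt D a := by
  obtain ⟨⟨y, hyc⟩, hy, rfl⟩ := hq
  obtain ⟨k, rfl⟩ := QuotientGroup.mk_surjective g
  exact ⟨k * ⟨y, hyc⟩ * k⁻¹, conj_mem_of_mem_closure (perp_closed hD a) k.2 y hy, rfl⟩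

/-- what is fixed by the image of an element of order 5 -/
theorem mem_fixed_iff (C : Ctx D a F) {x : Cfsg.SU 6 F 2} (hx : orderOf x = 5) {v : Fin 6 → F}
    (hv : h⟪v, v⟫ = 0) (hv0 : v ≠ 0) :
    C.φ (tv C.hF v hv) ∈ fixed (setAt D a) (Subgroup.zpowers (C.φ x)) ↔ act x v = v := by
  have hxv : h⟪act x v, act x v⟫ = 0 := by rw [act_herm]; exact hv
  have hxv0 : act x v ≠ 0 := fun h0 => hv0 (by rw [← act_inv_self x v, h0]; simp [act_def])
  have key : Commute (C.φ x) (C.φ (tv C.hF v hv)) ↔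
      C.φ (tv C.hF v hv) = C.φ (tv C.hF (act x v) hxv) := by
    rw [tv_conj C.hF x hv hxv, map_mul, map_mul, map_inv]
    exact ⟨fun h => by rw [h.eq, mul_inv_cancel_right], fun h => eq_mul_inv_iff_mul_eq.mp h |>.symm⟩
  rw [Set.mem_inter_iff, SetLike.mem_coe, centralizer_zpowers, Subgroup.mem_centralizer_singleton_iff]
  constructor
  · rintro ⟨-, h⟩
    obtain ⟨c, hc, he⟩ := (eq_iff_parallel C.φ C.hF C.ker hv hxv hv0 hxv0).mp (key.mp h.symm)
    exact act_eq_self C.hF hx hv0 hc he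
  · intro h
    exact ⟨tv_mem C hv hv0, (key.mpr (congrArg C.φ (tv_eq_of_eq C.hF h.symm hv hxv))).eq.symm⟩

set_option maxHeartbeats 800000 in
/-- the answer one level below type M(22) -/
theorem res_quot (S : Sys D F) (ha : a ∈ D) {Y : Subgroup (QuotAt D a)} (hY : Nat.card Y = 5) :
    Res (setAt D a) Y 3 := by
  set C := S.ctx a ha
  set E := setAt D a
  have hE := set_three C
  have hF := C.hF
  have hker : C.φ.ker = Subgroup.center (Cfsg.SU 6 F 2) := C.ker_eq
  obtain ⟨k, hk, rfl⟩ := exists_gen (p := 5) hY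
  obtain ⟨g, rfl⟩ := C.surj k
  obtain ⟨hx, hφx⟩ := sixth C.φ hF hker hk
  set x := g ^ 6
  rw [← hφx] at hY ⊢
  set Y := Subgroup.zpowers (C.φ x)
  obtain ⟨hk2, hn⟩ := fix_spec hF hx
  obtain ⟨u, v, hu, hv, hu0, hv0, huu, hvv, huv, hsp⟩ := exists_pair_isotropic hF hk2 hn
  set au := C.φ (tv hF u huu) with hau
  set av := C.φ (tv hF v hvv) with hav
  have haE : au ∈ E := tv_mem C huu hu0
  have hbE : av ∈ E := tv_mem C hvv hv0
  have hab : ¬ Commute au av := fun h => huv ((commute_iff C.φ hF C.ker huu hvv).mp h)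
  set T := fixed E Y with hTdef
  have hconj : ∀ n ∈ Subgroup.normalizer (Y : Set (QuotAt D a)), ∀ t ∈ T, n * t * n⁻¹ ∈ T :=
    fun n hn t ht => Eleven.normalizer_conj_fixed (fun g q hq => set_conj C.hD g q hq) hn ht
  have haT : au ∈ T := (mem_fixed_iff C hx huu hu0).mpr (mem_fixS.mp hu)
  have hbT : av ∈ T := (mem_fixed_iff C hx hvv hv0).mpr (mem_fixS.mp hv)
  have hTeq : T = {au, av, au * av * au} := by
    refine Set.Subset.antisymm (fun q hq => ?_) ?_
    · obtain ⟨w, hw, hw0, rfl⟩ := exists_tv_rep C hq.1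
      have hwU : w ∈ fixS x := mem_fixS.mpr ((mem_fixed_iff C hx hw hw0).mp hq)
      rw [← hsp, Submodule.mem_span_range_iff_exists_fun] at hwU
      obtain ⟨c, hc⟩ := hwU
      simp only [Fin.sum_univ_two, Matrix.cons_val_zero, Matrix.cons_val_one] at hc
      by_cases h0 : c 0 = 0
      · right; left
        rw [h0, zero_smul, zero_add] at hc
        have hc1 : c 1 ≠ 0 := fun h => hw0 (by rw [← hc, h, zero_smul])
        exact ((eq_iff_parallel C.φ hF C.ker hvv hw hv0 hw0).mpr ⟨c 1, hc1, hc.symm⟩).symm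
      by_cases h1 : c 1 = 0
      · left
        rw [h1, zero_smul, add_zero] at hc
        exact ((eq_iff_parallel C.φ hF C.ker huu hw hu0 hw0).mpr ⟨c 0, h0, hc.symm⟩).symm
      right; right
      have e : act (tv hF u huu) v = v + h⟪v, u⟫ • u := act_tv hF huu v
      have hz : h⟪act (tv hF u huu) v, act (tv hF u huu) v⟫ = 0 := by rw [act_herm]; exact hvv
      have hz0 : act (tv hF u huu) v ≠ 0 := fun h => hv0 (by
        rw [← act_inv_self (tv hF u huu) v, h]; simp [act_def])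
      have h3 : au * av * au = C.φ (tv hF (act (tv hF u huu) v) hz) := by
        rw [tv_conj hF _ hvv hz, map_mul, map_mul, map_inv]
        congr 1
        exact (inv_eq_of_mul_eq_one_right (Basic.mul_self hE haE)).symm
      rw [Set.mem_singleton_iff, h3]
      refine ((eq_iff_parallel C.φ hF C.ker hz hw hz0 hw0).mpr ⟨c 1, h1, ?_⟩).symm
      rw [e, smul_add, smul_smul, ← hc, add_comm]
      congr 1
      have hww : h⟪c 0 • u + c 1 • v, c 0 • u + c 1 • v⟫ = 0 := by rw [hc]; exact hw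
      simp only [Cfsg.Agent.Lib.Unitary.herm_add_left, Cfsg.Agent.Lib.Unitary.herm_add_right _ _ _ hF,
        herm_smul_left, herm_smul_right, huu, hvv, mul_zero, zero_add, add_zero,
        ← Cfsg.Agent.Lib.Unitary.herm_conj u v hF] at hww
      rw [← Cfsg.Agent.Lib.Unitary.herm_conj u v hF]
      set t := h⟪u, v⟫
      have hX0 : c 0 * (c 1 ^ 2 * t) ≠ 0 := mul_ne_zero h0 (mul_ne_zero (pow_ne_zero 2 h1) huv)
      have hX : c 0 * (c 1 ^ 2 * t) = 1 := by
        have h2 : (c 0 * (c 1 ^ 2 * t)) * (c 0 * (c 1 ^ 2 * t) + 1) = 0 := by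
          linear_combination hww +
            (c 0 ^ 2 * c 1 * t ^ 2) * UnitaryFour.Transvection.cube_eq_one hF h1
        have h4 := (mul_eq_zero.mp h2).resolve_left hX0
        linear_combination h4 - two_eq_zero hF
      congr 1
      linear_combination (c 1 * t ^ 2) * hX -
        c 0 * c 1 ^ 3 * UnitaryFour.Transvection.cube_eq_one hF huv -
        c 0 * UnitaryFour.Transvection.cube_eq_one hF h1
    · rintro q (rfl | rfl | rfl)
      · exact haT
      · exact hbT
      · have h := hconj au (Subgroup.centralizer_le_normalizer (Y : Set (QuotAt D a)) haT.2) av hbT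
        rwa [inv_eq_of_mul_eq_one_right (Basic.mul_self hE haE)] at h
  have hcoord : Nonempty (Coord T 3) := coord_three hE haE hbE hab hTeq
  set CY := Subgroup.centralizer (Y : Set (QuotAt D a)) with hCY
  have hTC : T ⊆ CY := fun q hq => hq.2
  have hYT : Y ≤ CY ⊓ Subgroup.centralizer T := le_inf (le_centralizer_self hY) fun q hq =>
    Subgroup.mem_centralizer_iff.mpr fun t ht => (Subgroup.mem_centralizer_iff.mp ht.2 q hq).symm
  have hcen : Nat.card (CY ⊓ Subgroup.centralizer T : Subgroup (QuotAt D a)) = 5 := by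
    refine le_antisymm ?_ (hY.ge.trans (Subgroup.card_le_of_le hYT))
    have hle : CY ⊓ Subgroup.centralizer T ≤ (fixer x).map C.φ := fun q hq => by
      obtain ⟨hq1, hq2⟩ := Subgroup.mem_inf.mp hq
      rw [hCY, centralizer_zpowers, Subgroup.mem_centralizer_singleton_iff] at hq1
      exact mem_map_fixer C.φ hF hker hx huu hvv hu0 hv0 huv hsp C.surj hq1
        (Subgroup.mem_centralizer_iff.mp hq2 _ haT) (Subgroup.mem_centralizer_iff.mp hq2 _ hbT)
    exact (Subgroup.card_le_of_le hle).trans (card_map_fixer_le C.φ hF hx)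
  have hC30 : Nat.card CY = 30 := by
    rw [card_mul_six hE haE hbE hab hTeq hTC
      (fun q hq t ht => hconj q (Subgroup.centralizer_le_normalizer (Y : Set (QuotAt D a)) hq) t ht), hcen]
  set N := Subgroup.normalizer (Y : Set (QuotAt D a))
  have hN6 := card_mul_six hE haE hbE hab hTeq (H := N)
    (fun q hq => Subgroup.centralizer_le_normalizer (Y : Set (QuotAt D a)) (hTC hq)) hconj
  obtain ⟨j, hj, hNC⟩ := exists_normalizer_mul hY
  change Nat.card N = Nat.card CY * j at hNC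
  rw [hC30] at hNC
  have hK : Nat.card (QuotAt D a) = 2 ^ 15 * 3 ^ 6 * 5 * 7 * 11 := by rw [C.card_quot, C.card_psu]
  have hK1 : Once 5 (QuotAt D a) := once_of_eq hK (m := 2 ^ 15 * 3 ^ 6 * 7 * 11) (by norm_num) (by norm_num)
  have hidx := index_normalizer_mod hK1 hY
  have hmul := N.card_mul_index
  rw [hNC, hK] at hmul
  change N.index % 5 = 1 at hidx
  have hj4 : j = 4 := by
    have := Nat.le_of_dvd (by norm_num) hj
    interval_cases j <;> omega
  subst hj4
  have hF20 : Nat.card (N ⊓ Subgroup.centralizer T : Subgroup (QuotAt D a)) = 20 := by omega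
  exact ⟨hcoord, hcen, hF20, by rw [hNC]; rfl⟩

theorem once_quot (S : Sys D F) (ha : a ∈ D) : Once 5 (QuotAt D a) :=
  once_of_eq (show Nat.card (QuotAt D a) = 2 ^ 15 * 3 ^ 6 * 5 * 7 * 11 by
    rw [(S.ctx a ha).card_quot, (S.ctx a ha).card_psu]) (m := 2 ^ 15 * 3 ^ 6 * 7 * 11) (by norm_num) (by norm_num)

/-- the fixed ones commute with four members multiplying to the generator -/
theorem fixed_commute_chain (C : Ctx D a F) {c : Fin 4 → QuotAt D a} (hc : ∀ i, c i ∈ setAt D a)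
    (h5 : orderOf (c 0 * c 1 * c 2 * c 3) = 5) {q : QuotAt D a}
    (hq : q ∈ fixed (setAt D a) (Subgroup.zpowers (c 0 * c 1 * c 2 * c 3))) (i : Fin 4) :
    Commute (c i) q := by
  have hsel : ∀ i, ∃ (v : Fin 6 → F) (hv : h⟪v, v⟫ = 0), v ≠ 0 ∧ c i = C.φ (tv C.hF v hv) :=
    fun i => exists_tv_rep C (hc i)
  choose v hv hv0 hcv using hsel
  set g := tv C.hF (v 0) (hv 0) * tv C.hF (v 1) (hv 1) * tv C.hF (v 2) (hv 2) * tv C.hF (v 3) (hv 3)
  have hφg : C.φ g = c 0 * c 1 * c 2 * c 3 := by simp [g, hcv]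
  rw [← hφg] at h5 hq
  obtain ⟨hx, hφx⟩ := sixth C.φ C.hF C.ker_eq h5
  rw [← hφx] at hq
  obtain ⟨hk2, -⟩ := fix_spec C.hF hx
  set S := Submodule.span F (Set.range v)
  have hmem : ∀ w ∈ orth S, ∀ i, h⟪w, v i⟫ = 0 := fun w hw =>
    (Cfsg.Agent.Lib.Unitary.mem_perp_span_range C.hF).mp hw
  have hle : orth S ≤ fixS (g ^ 6) := fun w hw => by
    rw [mem_fixS]
    refine Eleven.pow_fix ?_ 6
    simp [g, act_mul, act_tv, hmem w hw]
  have heq : orth S = fixS (g ^ 6) := by
    refine Submodule.eq_of_le_of_finrank_le hle ?_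
    have h1 : Module.finrank F S ≤ 4 := (finrank_range_le_card v).trans (Fintype.card_fin 4).le
    have h2 := Cfsg.Agent.Lib.Unitary.finrank_perp (q := 2) C.hF S
    change Module.finrank F (orth S) + _ = 6 at h2
    omega
  obtain ⟨w, hw, hw0, rfl⟩ := exists_tv_rep C hq.1
  have hwS : w ∈ orth S := heq ▸ mem_fixS.mpr ((mem_fixed_iff C hx hw hw0).mp hq)
  rw [hcv i]
  exact (commute_iff C.φ C.hF C.ker (hv i) hw).mpr (herm_eq_zero_symm C.hF (hmem w hwS i))

end Cfsg.Agent.Lib.FischerMTypes.Five
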