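import Mathlib
import Cfsg.Agent.Lib.FischerMTypes.OrderWidth
import Cfsg.Agent.Lib.FischerMTypes.StepGroup
import Cfsg.Agent.Lib.FischerMTypes.M23Data
import Cfsg.Agent.Lib.FischerMTypes.M24Data
import Cfsg.Agent.Lib.FischerMTypes.Five.Quot
import Cfsg.Agent.Lib.FischerMTypes.Five.Count
import Cfsg.Agent.Lib.FischerMTypes.Five.Classes

/-!
Subgroups of order 5 in the groups of types M(22), M(23) and M(24).
-/

set_option autoImplicit false
set_option linter.style.haveILetI false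
set_option linter.unusedSectionVars false

namespace Cfsg.Agent.Lib.FischerMTypes.Five

open Cfsg.Agent.Lib.FischerMTypes.Basic Cfsg.Agent.Lib.FischerMTypes.Primitive
  Cfsg.Agent.Lib.FischerMTypes.Levels
  Cfsg.Agent.Lib.FischerMTypes.PointModel Cfsg.Agent.Lib.FischerMTypes.TraceCounts
open Cfsg.Agent.Lib.FischerMTypes.Eleven (fixed Down mem_cent_perp mem_cent_self)
open Cfsg.Agent.Lib.FischerMTypes.PrimeOnce

universe u

variable {G : Type u} [Group G] [Finite G] {D : Set G} {Q : Type*} [Group Q] [Finite Q] {E : Set Q}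

/-- the answer for all subgroups of order 5, which form one class -/
structure Answer (D : Set G) (n : ℕ) : Prop where
  res : ∀ X : Subgroup G, Nat.card X = 5 → Res D X n
  conj : ∀ X Y : Subgroup G, Nat.card X = 5 → Nat.card Y = 5 →
    ∃ g : G, X.map (MulAut.conj g).toMonoidHom = Y

theorem factorization_two {c m : ℕ} (h : c = 5 ^ 2 * m) (hm : ¬ 5 ∣ m) : c.factorization 5 = 2 := by
  have hm0 : m ≠ 0 := fun e => hm (e ▸ dvd_zero 5)
  rw [h, Nat.factorization_mul (by norm_num) hm0, Finsupp.add_apply,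
    Nat.Prime.factorization_pow (by norm_num), Finsupp.single_eq_same,
    Nat.factorization_eq_zero_of_not_dvd hm]

/-- some subgroup of order 5 centralises a transposition -/
theorem exists_meet (hM : ∀ b ∈ D, Nonempty (Down D b E)) (h5 : 5 ∣ Nat.card Q) {d : G} (hd : d ∈ D) :
    ∃ x : G, orderOf x = 5 ∧ d ∈ fixed D (Subgroup.zpowers x) := by
  obtain ⟨M⟩ := hM d hd
  obtain ⟨q, hq⟩ := exists_prime_orderOf_dvd_card' (G := Q) 5 h5
  obtain ⟨h, rfl⟩ := M.surj q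
  have hk : h ^ 5 ∈ M.π.ker := by
    rw [MonoidHom.mem_ker, map_pow, ← hq, pow_orderOf_eq_one]
  have h10 : (h ^ 2) ^ 5 = 1 := by
    rw [← pow_mul, mul_comm, pow_mul]
    have : (⟨h ^ 5, hk⟩ : M.π.ker) ^ 2 = 1 := by rw [← M.card_ker]; exact pow_card_eq_one'
    exact congrArg Subtype.val this
  have hne : h ^ 2 ≠ 1 := fun e => by
    have := orderOf_dvd_of_pow_eq_one (show M.π h ^ 2 = 1 by rw [← map_pow, e, map_one])
    rw [hq] at this
    norm_num at this
  refine ⟨((h ^ 2 : Subgroup.centralizer ({d} : Set G)) : G), ?_, hd, ?_⟩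
  · rw [Subgroup.orderOf_coe]
    exact orderOf_eq_prime h10 hne
  · rw [SetLike.mem_coe, centralizer_zpowers, Subgroup.mem_centralizer_singleton_iff]
    exact (Subgroup.mem_centralizer_singleton_iff.mp (h ^ 2).2).symm

/-- collecting -/
theorem answer_of (hD : Cfsg.IsThreeTranspositionGroup D)
    (hcl : ∀ a ∈ D, ∀ b ∈ D, ∃ g : G, g * a * g⁻¹ = b) (hM : ∀ b ∈ D, Nonempty (Down D b E))
    (hQc : ∀ Y Y' : Subgroup Q, Nat.card Y = 5 → Nat.card Y' = 5 →
      ∃ q : Q, Y.map (MulAut.conj q).toMonoidHom = Y') {n : ℕ}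
    (hres : ∀ X : Subgroup G, Nat.card X = 5 → (fixed D X).Nonempty → Res D X n)
    (hmeet : ∀ X : Subgroup G, Nat.card X = 5 → (fixed D X).Nonempty) : Answer D n :=
  ⟨fun X hX => hres X hX (hmeet X hX),
    fun X Y hX hY => conj_of_meet hD hcl hM hQc hX hY (hmeet X hX) (hmeet Y hY)⟩

/-- a spare transposition gives the answer -/
theorem answer_spare (hD : Cfsg.IsThreeTranspositionGroup D)
    (hcl : ∀ a ∈ D, ∀ b ∈ D, ∃ g : G, g * a * g⁻¹ = b) (hM : ∀ b ∈ D, Nonempty (Down D b E))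
    (hQc : ∀ Y Y' : Subgroup Q, Nat.card Y = 5 → Nat.card Y' = 5 →
      ∃ q : Q, Y.map (MulAut.conj q).toMonoidHom = Y') (h5 : 5 ∣ Nat.card Q) (hne : D.Nonempty)
    (hG : (Nat.card G).factorization 5 = 2) {n : ℕ} (hn : 3 ≤ n)
    {σ : Equiv.Perm (Fin n)} (hσ5 : σ ^ 5 = 1) (hσ1 : σ ≠ 1) (p : Kn n) (hp : sw p * σ = σ * sw p)
    (hres : ∀ X : Subgroup G, Nat.card X = 5 → (fixed D X).Nonempty → Res D X n) : Answer D n := by
  obtain ⟨d, hd⟩ := hne
  obtain ⟨x, hx, hfix⟩ := exists_meet hM h5 hd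
  have hX : Nat.card (Subgroup.zpowers x) = 5 := by rw [Nat.card_zpowers, hx]
  obtain ⟨C⟩ := (hres _ hX ⟨d, hfix⟩).coord
  exact answer_of hD hcl hM hQc hres fun Y hY =>
    meet_all hD (pair_of hn hX rfl C hσ5 hσ1) hG (all_of_spare hn hX rfl C hσ5 hσ1 p hp) hY

/-- what commutes with a transposition, its commuting ones and one more commutes with all -/
theorem commute_all {T : Set G} {n : ℕ} (C : Coord T n) {g : G} {pd pe : Kn n} (hne : pe ≠ pd)
    (hnd : ¬ Dis pd pe) (hd : Commute g (C.P pd)) (hdis : ∀ q, Dis pd q → Commute g (C.P q))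
    (he : Commute g (C.P pe)) : ∀ p, Commute g (C.P p) := by
  let R : Fin n → Fin n → Prop := fun a b => a = b ∨ ∃ p : Kn n, Has p a ∧ Has p b ∧ Commute g (C.P p)
  have hsymm : ∀ {a b}, R a b → R b a := fun {a b} h => h.elim (fun e => Or.inl e.symm)
    fun ⟨p, h1, h2, h3⟩ => Or.inr ⟨p, h2, h1, h3⟩
  have htrans : ∀ {a b c}, R a b → R b c → R a c := by
    intro a b c hab hbc
    rcases hab with rfl | ⟨p, hpa, hpb, hpc⟩
    · exact hbc
    rcases hbc with rfl | ⟨q, hqb, hqc, hqe⟩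
    · exact Or.inr ⟨p, hpa, hpb, hpc⟩
    by_cases hac : a = c
    · exact Or.inl hac
    by_cases hab' : a = b
    · exact Or.inr ⟨q, hab' ▸ hqb, hqc, hqe⟩
    by_cases hbc' : b = c
    · exact Or.inr ⟨p, hpa, hbc' ▸ hpb, hpc⟩
    obtain ⟨r, hra, hrc⟩ := exists_pair hac
    refine Or.inr ⟨r, hra, hrc, ?_⟩
    have hswid : sw r = sw p * sw q * sw p := by
      rw [sw_of_has hra hrc hac, sw_of_has hpa hpb hab', sw_of_has hqb hqc hbc', Equiv.swap_comm a b,
        swap_conj_swap hbc' hac]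
    show Commute g (C.φ (sw r))
    rw [hswid, map_mul, map_mul]
    exact (hpc.mul_right hqe).mul_right hpc
  obtain ⟨α, hαd, hαe⟩ := exists_common hnd
  obtain ⟨β, hβd, hβα⟩ := exists_other hαd
  obtain ⟨c, hce, hcα⟩ := exists_other hαe
  have hcβ : c ≠ β := fun e => hne (kn_ext hcα.symm hαe hce hαd (e ▸ hβd))
  have hall : ∀ z, R α z := by
    intro z
    by_cases hzα : z = α
    · exact Or.inl hzα.symm
    by_cases hzβ : z = β
    · exact Or.inr ⟨pd, hαd, hzβ ▸ hβd, hd⟩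
    refine htrans (Or.inr ⟨pe, hαe, hce, he⟩ : R α c) ?_
    by_cases hcz : c = z
    · exact Or.inl hcz
    obtain ⟨q, hqc, hqz⟩ := exists_pair hcz
    refine Or.inr ⟨q, hqc, hqz, hdis q (dis_iff.mpr fun w hw hwq => ?_)⟩
    rcases has_unique hαd hβd hw hβα.symm with rfl | rfl <;> rcases has_unique hqc hqz hwq hcz with e | e
    exacts [hcα e.symm, hzα e.symm, hcβ e.symm, hzβ e.symm]
  intro p
  rcases htrans (hsymm (hall p.1.1)) (hall p.1.2) with e | ⟨q, h1, h2, h3⟩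
  · exact absurd e p.2.ne
  · rwa [kn_ext p.2.ne (Or.inl rfl) (Or.inr rfl) h1 h2]

theorem five_cycle : finRotate 5 ^ 5 = 1 ∧ finRotate 5 ≠ 1 ∧
    ∀ p : Kn 5, sw p * finRotate 5 ≠ finRotate 5 * sw p := by decide +kernel

/-- the product of four transvections along a path has order 5 -/
theorem chain_prod :
    (Equiv.swap (0 : Fin 5) 1 * Equiv.swap 1 2 * Equiv.swap 2 3 * Equiv.swap 3 4) ^ 5 = 1 ∧
      Equiv.swap (0 : Fin 5) 1 * Equiv.swap 1 2 * Equiv.swap 2 3 * Equiv.swap 3 4 ≠ 1 := by decide +kernel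

theorem spare_seven :
    (Equiv.swap (0 : Fin 7) 1 * Equiv.swap 1 2 * Equiv.swap 2 3 * Equiv.swap 3 4) ^ 5 = 1 ∧
      Equiv.swap (0 : Fin 7) 1 * Equiv.swap 1 2 * Equiv.swap 2 3 * Equiv.swap 3 4 ≠ 1 ∧
      Equiv.swap (5 : Fin 7) 6 * (Equiv.swap 0 1 * Equiv.swap 1 2 * Equiv.swap 2 3 * Equiv.swap 3 4) =
        Equiv.swap 0 1 * Equiv.swap 1 2 * Equiv.swap 2 3 * Equiv.swap 3 4 * Equiv.swap 5 6 := by
  decide +kernel

theorem spare_nine :
    (Equiv.swap (0 : Fin 9) 1 * Equiv.swap 1 2 * Equiv.swap 2 3 * Equiv.swap 3 4) ^ 5 = 1 ∧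
      Equiv.swap (0 : Fin 9) 1 * Equiv.swap 1 2 * Equiv.swap 2 3 * Equiv.swap 3 4 ≠ 1 ∧
      Equiv.swap (5 : Fin 9) 6 * (Equiv.swap 0 1 * Equiv.swap 1 2 * Equiv.swap 2 3 * Equiv.swap 3 4) =
        Equiv.swap 0 1 * Equiv.swap 1 2 * Equiv.swap 2 3 * Equiv.swap 3 4 * Equiv.swap 5 6 := by
  decide +kernel

section M22

variable {F : Type} [Field F] [Fintype F]

theorem res_one (S : Sys D F) {X : Subgroup G} (hX : Nat.card X = 5) (h : (fixed D X).Nonempty) :
    Res D X 5 := by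
  obtain ⟨d, hd⟩ := h
  have hM : ∀ b ∈ D, Nonempty (Down D b (setAt D d)) := fun b hb => down_M22 S hd.1 hb
  have hQ : ∀ Y : Subgroup (QuotAt D d), Nat.card Y = 5 → Res (setAt D d) Y 3 :=
    fun Y hY => res_quot S hd.1 hY
  refine res_step S.hD hM hQ hX counts_three counts_five (Or.inl rfl) (by norm_num) rfl (by norm_num)
    (by norm_num) check_three hd fun _ e he _ => ?_
  refine tot_three S.hD hM hQ hX rfl hd ?_ ?_ he
  · have := (RankM22.rankData S).ncard_off hd.1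
    omega
  · rw [(S.ctx d hd.1).card_quot, (S.ctx d hd.1).card_psu]

/-- the fixed transpositions commute with a chain spanning the element -/
theorem chain_commutes (S : Sys D F) {b : G} (hb : b ∈ D) {t : Fin 4 → G} (ht : ∀ i, t i ∈ perp D b)
    (h5 : orderOf (t 0 * t 1 * t 2 * t 3) = 5) {u : G}
    (hu : u ∈ fixed D (Subgroup.zpowers (t 0 * t 1 * t 2 * t 3))) (hub : u ∈ perp D b) (i : Fin 4) :
    Commute (t i) u := by
  obtain ⟨M⟩ := down_M22 S hb hb
  let H := Subgroup.centralizer ({b} : Set G)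
  let w : Fin 4 → H := fun i => ⟨t i, mem_cent_perp (ht i)⟩
  set y : H := w 0 * w 1 * w 2 * w 3
  have hy5 : y ^ 5 = 1 := Subtype.ext (show (t 0 * t 1 * t 2 * t 3) ^ 5 = 1 from h5 ▸ pow_orderOf_eq_one _)
  have hπ : orderOf (M.π (w 0) * M.π (w 1) * M.π (w 2) * M.π (w 3)) = 5 := by
    rw [← map_mul, ← map_mul, ← map_mul]
    refine orderOf_eq_prime (by rw [← map_pow, hy5, map_one]) fun h1 => ?_
    have := eq_of_image M odd5 hy5 (one_pow 5) (h1.trans (map_one M.π).symm)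
    have h' : t 0 * t 1 * t 2 * t 3 = 1 := congrArg Subtype.val this
    rw [h', orderOf_one] at h5
    omega
  have hq : M.π ⟨u, mem_cent_perp hub⟩ ∈
      fixed (setAt D b) (Subgroup.zpowers (M.π (w 0) * M.π (w 1) * M.π (w 2) * M.π (w 3))) := by
    refine ⟨M.mem u hub, ?_⟩
    have hc : Commute (⟨u, mem_cent_perp hub⟩ : H) y := by
      refine Subtype.ext ?_
      have := hu.2
      rw [SetLike.mem_coe, centralizer_zpowers, Subgroup.mem_centralizer_singleton_iff] at this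
      exact this
    rw [SetLike.mem_coe, centralizer_zpowers, Subgroup.mem_centralizer_singleton_iff, ← map_mul, ← map_mul,
      ← map_mul]
    exact (hc.map M.π).eq
  exact (M.commute_iff S.hD.2.1 (w i) hub).mpr
    (fixed_commute_chain (S.ctx b hb) (fun i => M.mem _ (ht i)) hπ hq i)

/-- a path of four transpositions below two commuting ones -/
theorem exists_path (S : Sys D F) : ∃ a d : G, ∃ t : Fin 4 → G, a ∈ D ∧ d ∈ perp D a ∧
    (∀ i, t i ∈ perp D a ∧ t i ∈ perp D d) ∧ ¬ Commute (t 0) (t 1) ∧ ¬ Commute (t 1) (t 2) ∧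
      ¬ Commute (t 2) (t 3) ∧ Commute (t 0) (t 2) ∧ Commute (t 0) (t 3) ∧ Commute (t 1) (t 3) := by
  obtain ⟨a, ha, -⟩ := S.hprim.2.1
  set C := S.ctx a ha
  obtain ⟨w, hw0, hw1, hw⟩ := UnitaryFour.Transvection.exists_omega C.hF
  have h2 := UnitaryFour.Transvection.two_eq_zero C.hF
  have hw3 := UnitaryFour.Transvection.cube_eq_one C.hF hw0
  let c : Fin 4 → Fin 6 → F :=
    ![![1, 1, 0, 0, 0, 0], ![0, 1, 1, 0, 0, 0], ![0, 0, 1, 1, 0, 0], ![1, 1, 1, w, 0, 0]]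
  let u : Fin 6 → F := ![0, 0, 0, 0, 1, 1]
  have hiso : ∀ i, Cfsg.hermForm 6 F 2 (c i) (c i) = 0 := by
    intro i
    fin_cases i <;> simp [c, Cfsg.hermForm, Fin.sum_univ_six] <;>
      first
        | linear_combination h2
        | linear_combination hw3 + 2 * h2
  have hu : Cfsg.hermForm 6 F 2 u u = 0 := by
    simp [u, Cfsg.hermForm, Fin.sum_univ_six]
    linear_combination h2
  have hc0 : ∀ i, c i ≠ 0 := fun i h => by
    fin_cases i <;> simp [c, funext_iff, Fin.forall_fin_succ] at h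
  have hu0 : u ≠ 0 := fun h => by simp [u, funext_iff, Fin.forall_fin_succ] at h
  have hpair : Cfsg.hermForm 6 F 2 (c 0) (c 1) ≠ 0 ∧ Cfsg.hermForm 6 F 2 (c 1) (c 2) ≠ 0 ∧
      Cfsg.hermForm 6 F 2 (c 2) (c 3) ≠ 0 ∧ Cfsg.hermForm 6 F 2 (c 0) (c 2) = 0 ∧
      Cfsg.hermForm 6 F 2 (c 0) (c 3) = 0 ∧ Cfsg.hermForm 6 F 2 (c 1) (c 3) = 0 := by
    refine ⟨?_, ?_, ?_, ?_, ?_, ?_⟩ <;> simp [c, Cfsg.hermForm, Fin.sum_univ_six]
    · intro h
      exact hw0 (by linear_combination hw - h)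
    · linear_combination h2
    · linear_combination h2
  have hcu : ∀ i, Cfsg.hermForm 6 F 2 (c i) u = 0 := by
    intro i
    fin_cases i <;> simp [c, u, Cfsg.hermForm, Fin.sum_univ_six]
  have hne : ∀ i, C.pt (c i) ≠ C.pt u := fun i h => by
    obtain ⟨k, hk, he⟩ := (C.pt_eq (hiso i) (hc0 i) hu hu0).mp h
    fin_cases i <;> simp [c, u, funext_iff, Fin.forall_fin_succ] at he
  refine ⟨a, C.pt u, fun i => C.pt (c i), ha, C.pt_mem hu hu0, fun i => ⟨C.pt_mem (hiso i) (hc0 i),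
    (C.pt_mem (hiso i) (hc0 i)).1, hne i, ((C.pt_comm (hiso i) (hc0 i) hu hu0).mpr (hcu i)).symm⟩,
    fun h => hpair.1 ((C.pt_comm (hiso 0) (hc0 0) (hiso 1) (hc0 1)).mp h),
    fun h => hpair.2.1 ((C.pt_comm (hiso 1) (hc0 1) (hiso 2) (hc0 2)).mp h),
    fun h => hpair.2.2.1 ((C.pt_comm (hiso 2) (hc0 2) (hiso 3) (hc0 3)).mp h),
    (C.pt_comm (hiso 0) (hc0 0) (hiso 2) (hc0 2)).mpr hpair.2.2.2.1,
    (C.pt_comm (hiso 0) (hc0 0) (hiso 3) (hc0 3)).mpr hpair.2.2.2.2.1,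
    (C.pt_comm (hiso 1) (hc0 1) (hiso 3) (hc0 3)).mpr hpair.2.2.2.2.2⟩

/-- a fixed set centralised by one more transposition -/
theorem exists_common_centraliser (S : Sys D F) :
    ∃ (x : G) (_ : Nat.card (Subgroup.zpowers x) = 5) (C : Coord (fixed D (Subgroup.zpowers x)) 5),
      ∀ σ, ∃ d ∈ D, Commute (C.φ σ) d := by
  have hD := S.hD
  obtain ⟨a, d, t, ha, hd, ht, n01, n12, n23, c02, c03, c13⟩ := exists_path S
  let s : ℕ → G := fun i => if h : i < 4 then t ⟨i, h⟩ else a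
  have hch : SymChain.Chain D 4 s := by
    refine ⟨fun i hi => by simp only [s, dif_pos hi]; exact (ht _).1.1, fun i hi => ?_, fun i j hij hj => ?_⟩
    · have hi' : i < 3 := by omega
      interval_cases i <;> simp [s] <;> assumption
    · have hj' : (i = 0 ∧ j = 2) ∨ (i = 0 ∧ j = 3) ∨ (i = 1 ∧ j = 3) := by omega
      rcases hj' with ⟨rfl, rfl⟩ | ⟨rfl, rfl⟩ | ⟨rfl, rfl⟩ <;> simp [s] <;> assumption
  obtain ⟨T1, C1, -, hC1⟩ := exists_coord hD.1 (m := 4) le_rfl hch (T := D)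
    (fun i hi => hch.mem i hi) (fun g _ y hy => hD.2.1 g y hy)
  set σ : Equiv.Perm (Fin 5) := Equiv.swap 0 1 * Equiv.swap 1 2 * Equiv.swap 2 3 * Equiv.swap 3 4
  have hσ : C1.φ σ = t 0 * t 1 * t 2 * t 3 := by
    have e0 : C1.φ (Equiv.swap (0 : Fin 5) 1) = t 0 := hC1 0 (by norm_num)
    have e1 : C1.φ (Equiv.swap (1 : Fin 5) 2) = t 1 := hC1 1 (by norm_num)
    have e2 : C1.φ (Equiv.swap (2 : Fin 5) 3) = t 2 := hC1 2 (by norm_num)
    have e3 : C1.φ (Equiv.swap (3 : Fin 5) 4) = t 3 := hC1 3 (by norm_num)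
    simp only [σ, map_mul, e0, e1, e2, e3]
  set y := t 0 * t 1 * t 2 * t 3
  have hy : orderOf y = 5 := by
    rw [← hσ, orderOf_injective C1.φ C1.inj σ]
    exact orderOf_eq_prime chain_prod.1 chain_prod.2
  set X := Subgroup.zpowers y
  have hX : Nat.card X = 5 := by rw [Nat.card_zpowers, hy]
  have hfix : ∀ z ∈ D, (∀ i, Commute (t i) z) → z ∈ fixed D X := fun z hz hc => by
    refine ⟨hz, ?_⟩
    rw [SetLike.mem_coe, centralizer_zpowers, Subgroup.mem_centralizer_singleton_iff]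
    exact ((((hc 0).mul_left (hc 1)).mul_left (hc 2)).mul_left (hc 3)).eq.symm
  have haT : a ∈ fixed D X := hfix a ha fun i => (ht i).1.2.2.symm
  have hdT : d ∈ fixed D X := hfix d hd.1 fun i => (ht i).2.2.2.symm
  have hdN : d ∈ Nbr D X a := ⟨hdT, hd.2.1, hd.2.2⟩
  obtain ⟨C⟩ := (res_one S hX ⟨a, haT⟩).coord
  have hM : ∀ b ∈ D, Nonempty (Down D b (setAt D a)) := fun b hb => down_M22 S ha hb
  obtain ⟨e, he, hde⟩ := Set.nonempty_of_ncard_ne_zero
    (by rw [ncard_far_nbr hD hM (fun Y hY => res_quot S ha hY) hX counts_three haT hdN]; norm_num :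
      {u | u ∈ Far D X a ∧ Commute d u}.ncard ≠ 0)
  obtain ⟨pd, hpd⟩ := C.surj a haT
  obtain ⟨pe, hpe⟩ := C.surj e he.1
  have hall : ∀ p, Commute (t 0) (C.P p) := by
    refine commute_all C (pd := pd) (pe := pe) (fun h => he.2 ?_) (fun h => he.2 ?_) ?_ (fun q hq => ?_) ?_
    · rw [← hpd, ← hpe, h]
    · rw [← hpd, ← hpe]; exact C.commute_iff.mpr (Or.inr h)
    · show Commute (t 0) (C.φ (sw pd))
      rw [hpd]; exact (ht 0).1.2.2.symm
    · refine chain_commutes S ha (fun i => (ht i).1) hy (C.mem q) ⟨(C.mem q).1, fun h => ?_, ?_⟩ 0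
      · refine dis_iff.mp hq _ (Or.inl rfl) ?_
        have : q = pd := C.P_inj (h.trans hpd.symm)
        rw [this]; exact Or.inl rfl
      · rw [← hpd]; exact C.commute_iff.mpr (Or.inr hq)
    · show Commute (t 0) (C.φ (sw pe))
      rw [hpe]
      exact chain_commutes S hd.1 (fun i => (ht i).2) hy he.1
        ⟨he.1.1, fun h => he.2 (h ▸ hd.2.2), hde⟩ 0
  refine ⟨y, hX, C, fun τ => ⟨t 0, (ht 0).1.1, ?_⟩⟩
  have hτ : C.φ τ ∈ C.φ.range := ⟨τ, rfl⟩
  rw [C.range_eq] at hτ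
  refine (commute_closure (u := t 0) (fun z hz => ?_) _ hτ).symm
  obtain ⟨p, rfl⟩ := C.surj z hz
  exact hall p

/-- type M(22) -/
theorem answer_one (S : Sys D F) : Answer D 5 := by
  have hD := S.hD
  obtain ⟨a, ha, -⟩ := S.hprim.2.1
  refine answer_of hD S.hprim.1 (fun b hb => down_M22 S ha hb)
    (fun Y Y' hY hY' => exists_conj (once_quot S ha) hY hY') (fun X hX h => res_one S hX h) fun Y hY => ?_
  obtain ⟨x, hX, C, hC⟩ := exists_common_centraliser S
  obtain ⟨h5, h1, hno⟩ := five_cycle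
  have hP := pair_of (by norm_num) hX rfl C h5 h1
  have hmem : ∀ z d : G, (d ∈ fixed D (Subgroup.zpowers z) ↔ d ∈ D ∧ Commute z d) := fun z d => by
    rw [Set.mem_inter_iff, SetLike.mem_coe, centralizer_zpowers, Subgroup.mem_centralizer_singleton_iff]
    exact ⟨fun h => ⟨h.1, h.2.symm⟩, fun h => ⟨h.1, h.2.eq.symm⟩⟩
  refine meet_all hD hP (factorization_two (m := 2 ^ 17 * 3 ^ 9 * 7 * 11 * 13)
    (by rw [OrderWidth.card_group S]; norm_num) (by norm_num))
    (all_of_count hD hP (TraceSize.ncard_class S) (fun z hz hzd => ?_) (fun d hd hxd hsd => ?_) ?_ (hC _)) hY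
  · obtain ⟨d, hd, hc⟩ := hzd
    have hZ : Nat.card (Subgroup.zpowers z) = 5 := by rw [Nat.card_zpowers, hz]
    obtain ⟨C'⟩ := (res_one S hZ ⟨d, (hmem z d).mpr ⟨hd, hc⟩⟩).coord
    rw [← counts_five.size, ← C'.ncard]
    congr 1
    ext u
    exact (hmem z u).symm
  · obtain ⟨p, hp⟩ := C.surj d ((hmem x d).mpr ⟨hd, hxd⟩)
    refine hno p (C.inj ?_)
    rw [map_mul, map_mul, hp]
    exact hsd.eq.symm
  · obtain ⟨p⟩ : Nonempty (Kn 5) := ⟨⟨(0, 1), by decide⟩⟩
    exact ⟨_, (C.mem p).1, ((hmem x _).mp (C.mem p)).2⟩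

end M22

/-- type M(22), from the definition -/
theorem answer_M22 (hD : Cfsg.IsThreeTranspositionGroup D) (hprim : Cfsg.IsPrimitiveUnderConj D)
    (h : Cfsg.IsOfTypeM22 G D) : Answer D 5 := by
  obtain ⟨F, _, _, ⟨S⟩⟩ := exists_sys hD hprim h
  exact answer_one S

/-- type M(23), from the definition -/
theorem answer_M23 (hD : Cfsg.IsThreeTranspositionGroup D) (hprim : Cfsg.IsPrimitiveUnderConj D)
    (h : Cfsg.IsOfTypeM23 G D) :
    Answer D 7 ∧ Nat.card G = 2 ^ 18 * 3 ^ 13 * 5 ^ 2 * 7 * 11 * 13 * 17 * 23 := by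
  obtain ⟨Q, iQ, iQ', E, F, iF, iF', S22, ⟨S⟩⟩ := M23Data.exists_step hD hprim h
  have P := M23Data.pinned hD hprim h S22 S
  have hG : Nat.card G = 2 ^ 18 * 3 ^ 13 * 5 ^ 2 * 7 * 11 * 13 * 17 * 23 := by
    rw [S.card_group P, S.ncard_class P (F := 28160) (by norm_num), OrderWidth.card_group S22]
    norm_num
  obtain ⟨hQ, hQc⟩ := answer_one S22
  have hM : ∀ b ∈ D, Nonempty (Down D b E) :=
    fun b hb => down_step S P (f := 28160) (by norm_num) (by norm_num) hb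
  have hcardQ := OrderWidth.card_group S22
  have hne : D.Nonempty := S.hprim.2.1.imp fun _ h => h.1
  obtain ⟨h5, h1, hc⟩ := spare_seven
  refine ⟨answer_spare S.hD S.hcl hM hQc (by rw [hcardQ]; norm_num) hne
    (factorization_two (m := 2 ^ 18 * 3 ^ 13 * 7 * 11 * 13 * 17 * 23) (by rw [hG]; norm_num) (by norm_num))
    (by norm_num) h5 h1 ⟨(5, 6), by decide⟩ hc fun X hX hne => ?_, hG⟩
  obtain ⟨d, hd⟩ := hne
  refine res_step S.hD hM hQ hX counts_five counts_seven (Or.inr le_rfl) (by norm_num) rfl (by norm_num)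
    (by norm_num) check_five hd fun _ e he hb => ?_
  exact tot_five S.hD hM hQ hX rfl hd
    (Step.StepData.ncard_far S P hd.1 (F := 28160) (by norm_num)) hcardQ he hb

/-- type M(24), from the definition -/
theorem answer_M24 (hD : Cfsg.IsThreeTranspositionGroup D) (hprim : Cfsg.IsPrimitiveUnderConj D)
    (h : Cfsg.IsOfTypeM24 G D) : Answer D 9 := by
  obtain ⟨Q, iQ, iQ', E, Q₂, i₂, i₂', E₂, F, iF, iF', S22, S23, hM23, ⟨S⟩⟩ :=
    M24Data.exists_step hD hprim h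
  have P := M24Data.pinned S22 S23 hM23 h S
  obtain ⟨⟨hQ, hQc⟩, hQcard⟩ := answer_M23 S23.hD S23.hprim hM23
  have hG : Nat.card G = 2 ^ 22 * 3 ^ 16 * 5 ^ 2 * 7 ^ 3 * 11 * 13 * 17 * 23 * 29 := by
    rw [S.card_group P, S.ncard_class P (F := 275264) (by norm_num), hQcard]
    norm_num
  have hM : ∀ b ∈ D, Nonempty (Down D b E) :=
    fun b hb => down_step S P (f := 275264) (by norm_num) (by norm_num) hb
  have hne : D.Nonempty := S.hprim.2.1.imp fun _ h => h.1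
  obtain ⟨h5, h1, hc⟩ := spare_nine
  refine answer_spare S.hD S.hcl hM hQc (by rw [hQcard]; norm_num) hne
    (factorization_two (m := 2 ^ 22 * 3 ^ 16 * 7 ^ 3 * 11 * 13 * 17 * 23 * 29) (by rw [hG]; norm_num)
      (by norm_num))
    (by norm_num) h5 h1 ⟨(5, 6), by decide⟩ hc fun X hX hne => ?_
  obtain ⟨d, hd⟩ := hne
  exact res_step S.hD hM hQ hX counts_seven counts_nine (Or.inr (by norm_num)) (by norm_num) rfl (by norm_num)
    (by norm_num) check_seven hd fun h => absurd rfl h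

end Cfsg.Agent.Lib.FischerMTypes.Five
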